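import Groth.Agent.L14.CentQuot.Pts
import Groth.Agent.L25.DSPts
import Groth.Agent.L25.SplitSub.Map
import Mathlib.Algebra.MonoidAlgebra.Lift

/-!
# Ring valued points over an affine open
-/

set_option autoImplicit false
set_option backward.isDefEq.respectTransparency.types false
set_option linter.style.haveILetI false

universe u

open CategoryTheory MonoidalCategory CartesianMonoidalCategory MonObj AlgebraicGeometry
open Groth.L25

noncomputable section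

namespace Groth.L14.CentQuot

variable {S : Scheme.{u}} (U : S.affineOpens)

/-- the spectrum of a ring over the ring of `U`, over `S` -/
def aff (K : Type u) [CommRing K] (ϑ : Γ(S, U.1) →+* K) : Over S :=
  Over.mk (Spec.map (CommRingCat.ofHom ϑ) ≫ U.2.fromSpec)

variable {U} {K K' : Type u} [CommRing K] [CommRing K'] (ϑ : Γ(S, U.1) →+* K) (ϑ' : Γ(S, U.1) →+* K')

instance isAffine_aff : IsAffine (aff U K ϑ).left := inferInstanceAs (IsAffine (Spec (CommRingCat.of K)))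

theorem lies_aff : Lies (aff U K ϑ) U.1 := by
  show ⊤ ≤ (Spec.map (CommRingCat.ofHom ϑ) ≫ U.2.fromSpec) ⁻¹ᵁ U.1
  rw [Scheme.Hom.comp_preimage, U.2.fromSpec_preimage_self]
  rfl

theorem aff_appLE : (aff U K ϑ).hom.appLE U.1 ⊤ (lies_aff ϑ) ≫ (Scheme.ΓSpecIso (CommRingCat.of K)).hom =
    CommRingCat.ofHom ϑ := by
  apply Spec.map_injective
  rw [← cancel_mono U.2.fromSpec, Spec.map_comp, Category.assoc]
  rw [IsAffineOpen.SpecMap_appLE_fromSpec (aff U K ϑ).hom U.2 (isAffineOpen_top _), IsAffineOpen.fromSpec_top]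
  show Spec.map (Scheme.ΓSpecIso (CommRingCat.of K)).hom ≫ (Spec (CommRingCat.of K)).isoSpec.inv ≫ _ = _
  rw [← Scheme.isoSpec_Spec_hom, Iso.hom_inv_id_assoc]
  rfl

variable {G : Over S}

/-- the ring map of a ring valued point -/
def pK (x : aff U K ϑ ⟶ G) : Γ(G.left, G.hom ⁻¹ᵁ U.1) →+* K :=
  (pts (lies_aff ϑ) x ≫ (Scheme.ΓSpecIso (CommRingCat.of K)).hom).hom

theorem pK_hom (x : aff U K ϑ ⟶ G) : (pK ϑ x).comp (G.hom.app U.1).hom = ϑ := by
  have h := congrArg CommRingCat.Hom.hom (aff_appLE (U := U) ϑ)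
  rw [← pts_hom (lies_aff ϑ) x, Category.assoc] at h
  exact h

theorem pK_injective [IsAffineHom G.hom] {x y : aff U K ϑ ⟶ G} (h : pK ϑ x = pK ϑ y) : x = y :=
  pts_injective (U.2.preimage G.hom) (lies_aff ϑ) ((cancel_mono (Scheme.ΓSpecIso (CommRingCat.of K)).hom).1
    (CommRingCat.hom_ext h))

/-- the point of a ring map -/
def mkK [IsAffineHom G.hom] (φ : Γ(G.left, G.hom ⁻¹ᵁ U.1) →+* K) (hφ : φ.comp (G.hom.app U.1).hom = ϑ) :
    aff U K ϑ ⟶ G :=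
  mkPt (U.2.preimage G.hom) U.2 (lies_aff ϑ) (CommRingCat.ofHom φ ≫ (Scheme.ΓSpecIso (CommRingCat.of K)).inv) (by
    refine (cancel_mono (Scheme.ΓSpecIso (CommRingCat.of K)).hom).1 (Eq.trans ?_ (aff_appLE (U := U) ϑ).symm)
    show (G.hom.app U.1 ≫ CommRingCat.ofHom φ ≫ (Scheme.ΓSpecIso (CommRingCat.of K)).inv) ≫ (Scheme.ΓSpecIso (CommRingCat.of K)).hom = _
    simp only [Category.assoc, Iso.inv_hom_id, Category.comp_id]
    exact CommRingCat.hom_ext hφ)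

theorem pK_mkK [IsAffineHom G.hom] (φ : Γ(G.left, G.hom ⁻¹ᵁ U.1) →+* K) (hφ : φ.comp (G.hom.app U.1).hom = ϑ) :
    pK ϑ (mkK ϑ φ hφ) = φ := by
  rw [pK, mkK, pts_mkPt, Category.assoc, Iso.inv_hom_id, Category.comp_id]
  rfl

/-- the map of a ring homomorphism -/
def mapK (ψ : K →+* K') (hψ : ψ.comp ϑ = ϑ') : aff U K' ϑ' ⟶ aff U K ϑ :=
  Over.homMk (Spec.map (CommRingCat.ofHom ψ)) (by
    show Spec.map (CommRingCat.ofHom ψ) ≫ Spec.map (CommRingCat.ofHom ϑ) ≫ U.2.fromSpec =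
      Spec.map (CommRingCat.ofHom ϑ') ≫ U.2.fromSpec
    rw [← Spec.map_comp_assoc, ← CommRingCat.ofHom_comp, hψ])

theorem mapK_appTop (ψ : K →+* K') (hψ : ψ.comp ϑ = ϑ') (v : Γ((aff U K ϑ).left, ⊤)) :
    (Scheme.ΓSpecIso (CommRingCat.of K')).hom ((mapK ϑ ϑ' ψ hψ).left.appTop v) =
      ψ ((Scheme.ΓSpecIso (CommRingCat.of K)).hom v) :=
  congrArg (fun q : Γ(Spec (CommRingCat.of K), ⊤) ⟶ CommRingCat.of K' => q v)
    (Scheme.ΓSpecIso_naturality (CommRingCat.ofHom ψ))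

theorem pK_mapK (ψ : K →+* K') (hψ : ψ.comp ϑ = ϑ') (x : aff U K ϑ ⟶ G) :
    pK ϑ' (mapK ϑ ϑ' ψ hψ ≫ x) = ψ.comp (pK ϑ x) := by
  refine RingHom.ext fun b => ?_
  rw [pK, pts_comp (lies_aff ϑ) (lies_aff ϑ') (mapK ϑ ϑ' ψ hψ) x]
  exact mapK_appTop ϑ ϑ' ψ hψ _

variable {Λ : Type} [AddCommGroup Λ]

/-- the global functions of the spectrum -/
def toK : Γ((aff U K ϑ).left, ⊤) →+* K := (Scheme.ΓSpecIso (CommRingCat.of K)).hom.hom

/-- elements as global functions of the spectrum -/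
def ofK : K →+* Γ((aff U K ϑ).left, ⊤) := (Scheme.ΓSpecIso (CommRingCat.of K)).inv.hom

theorem toK_ofK (v : K) : toK ϑ (ofK ϑ v) = v :=
  congrArg (fun q : CommRingCat.of K ⟶ CommRingCat.of K => q v) (Scheme.ΓSpecIso (CommRingCat.of K)).inv_hom_id

theorem toK_injective : Function.Injective (toK ϑ) :=
  (Scheme.ΓSpecIso (CommRingCat.of K)).commRingCatIsoToRingEquiv.injective

/-- the character of a ring valued point -/
def chK (t : aff U K ϑ ⟶ Red.DS S Λ) : Multiplicative Λ →* K :=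
  (toK ϑ : Γ((aff U K ϑ).left, ⊤) →* K).comp (DSPts.char t)

/-- the point of a character -/
def ptK (χ : Multiplicative Λ →* K) : aff U K ϑ ⟶ Red.DS S Λ :=
  DSPts.pt ((ofK ϑ : K →* Γ((aff U K ϑ).left, ⊤)).comp χ)

theorem chK_ptK (χ : Multiplicative Λ →* K) : chK ϑ (ptK ϑ χ) = χ := by
  refine MonoidHom.ext fun m => ?_
  show toK ϑ (DSPts.char (ptK ϑ χ) m) = χ m
  rw [ptK, DSPts.char_pt]
  exact toK_ofK ϑ (χ m)

theorem chK_injective {t t' : aff U K ϑ ⟶ Red.DS S Λ} (h : chK ϑ t = chK ϑ t') : t = t' :=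
  DSPts.char_injective (MonoidHom.ext fun m =>
    toK_injective ϑ (DFunLike.congr_fun h m))

theorem chK_mapK (ψ : K →+* K') (hψ : ψ.comp ϑ = ϑ') (t : aff U K ϑ ⟶ Red.DS S Λ) :
    chK ϑ' (mapK ϑ ϑ' ψ hψ ≫ t) = (ψ : K →* K').comp (chK ϑ t) := by
  refine MonoidHom.ext fun m => ?_
  show toK ϑ' (DSPts.char _ m) = _
  rw [DSPts.char_comp]
  exact mapK_appTop ϑ ϑ' ψ hψ _

theorem chK_one : chK ϑ (1 : aff U K ϑ ⟶ Red.DS S Λ) = 1 :=
  MonoidHom.ext fun m => by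
    show toK ϑ (DSPts.char (1 : aff U K ϑ ⟶ Red.DS S Λ) m) = 1
    rw [DSPts.char_one]
    exact map_one _

theorem chK_mul (t t' : aff U K ϑ ⟶ Red.DS S Λ) : chK ϑ (t * t') = chK ϑ t * chK ϑ t' :=
  MonoidHom.ext fun m => by
    show toK ϑ (DSPts.char (t * t') m) = _
    rw [DSPts.char_mul]
    exact map_mul _ _ _

end Groth.L14.CentQuot
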