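import Mathlib.AlgebraicGeometry.Sites.SmallAffineZariski
import Mathlib.AlgebraicGeometry.Morphisms.Affine
import Mathlib.AlgebraicGeometry.Morphisms.QuasiSeparated
import Mathlib.Tactic.DepRewrite
import Mathlib.AlgebraicGeometry.RelativeGluing

/-!
# The relative spectrum of an equalizer

For two morphisms `a, b : Y ⟶ X` between schemes affine over `S` we glue the spectra of the equalizers of
the sections over the affine opens of `S`.
-/

set_option autoImplicit false
set_option backward.isDefEq.respectTransparency.types false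
set_option linter.style.haveILetI false

universe u

open CategoryTheory CategoryTheory.Limits AlgebraicGeometry

noncomputable section

namespace Groth.L14.CentQuot

open Scheme.AffineZariskiSite

variable {S X Y : Scheme.{u}} (f : X ⟶ S) (g : Y ⟶ S) (a b : Y ⟶ X) (ha : a ≫ f = g) (hb : b ≫ f = g)

include ha in
theorem le_pre (U : S.Opens) : g ⁻¹ᵁ U ≤ a ⁻¹ᵁ (f ⁻¹ᵁ U) := by
  rw [← Scheme.Hom.comp_preimage, ha]

/-- the invariant sections over an open -/
def eqSub (U : S.Opens) : Subring Γ(X, f ⁻¹ᵁ U) :=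
  RingHom.eqLocus (a.appLE (f ⁻¹ᵁ U) (g ⁻¹ᵁ U) (le_pre f g a ha U)).hom
    (b.appLE (f ⁻¹ᵁ U) (g ⁻¹ᵁ U) (le_pre f g b hb U)).hom

theorem appLE_res {c : Y ⟶ X} (hc : c ≫ f = g) {U V : S.Opens} (i : U ≤ V) (x : Γ(X, f ⁻¹ᵁ V)) :
    (c.appLE (f ⁻¹ᵁ U) (g ⁻¹ᵁ U) (le_pre f g c hc U)).hom
        ((X.presheaf.map (homOfLE (f.preimage_mono i)).op).hom x) =
      (Y.presheaf.map (homOfLE (g.preimage_mono i)).op).hom
        ((c.appLE (f ⁻¹ᵁ V) (g ⁻¹ᵁ V) (le_pre f g c hc V)).hom x) := by
  rw [← CommRingCat.comp_apply, ← CommRingCat.comp_apply, Scheme.Hom.map_appLE, Scheme.Hom.appLE_map]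

/-- the presheaf of invariant sections -/
def diagram : S.Opensᵒᵖ ⥤ CommRingCat where
  obj U := .of (eqSub f g a b ha hb U.unop)
  map {V U} i :=
    CommRingCat.ofHom ((X.presheaf.map (homOfLE (f.preimage_mono i.unop.le)).op).hom.restrict
      (eqSub f g a b ha hb V.unop) (eqSub f g a b ha hb U.unop) fun x hx => by
        show _ = _
        rw [appLE_res f g ha i.unop.le, appLE_res f g hb i.unop.le]
        exact congrArg _ hx)
  map_id U := by
    refine CommRingCat.hom_ext (RingHom.ext fun x => Subtype.ext ?_)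
    show (X.presheaf.map (homOfLE _).op).hom x.1 = x.1
    rw [show (homOfLE (f.preimage_mono (le_refl U.unop))).op = 𝟙 _ from rfl, X.presheaf.map_id]
    rfl
  map_comp {U V W} i j := by
    refine CommRingCat.hom_ext (RingHom.ext fun x => Subtype.ext ?_)
    show (X.presheaf.map (homOfLE _).op).hom x.1 =
      (X.presheaf.map (homOfLE _).op).hom ((X.presheaf.map (homOfLE _).op).hom x.1)
    rw [← CommRingCat.comp_apply, ← X.presheaf.map_comp]
    rfl

theorem app_mem {U : S.Opens} (r : Γ(S, U)) : (f.app U).hom r ∈ eqSub f g a b ha hb U := by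
  show _ = _
  rw [← CommRingCat.comp_apply, ← CommRingCat.comp_apply, Scheme.Hom.app_eq_appLE, Scheme.Hom.appLE_comp_appLE,
    Scheme.Hom.appLE_comp_appLE]
  simp only [ha, hb]

/-- the structure map into the invariant sections -/
def diagramMap : S.presheaf ⟶ diagram f g a b ha hb where
  app U := CommRingCat.ofHom ((f.app U.unop).hom.codRestrict (eqSub f g a b ha hb U.unop) fun r => app_mem f g a b ha hb r)
  naturality {U V} i := by
    refine CommRingCat.hom_ext (RingHom.ext fun x => Subtype.ext ?_)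
    exact congr($(f.naturality i) x)

variable [IsAffineHom f] [IsAffineHom g]

theorem isLocalization_res {Z : Scheme.{u}} (h : Z ⟶ S) [IsAffineHom h] (U : S.affineOpens) (r : Γ(S, U.1)) :
    letI := (Z.presheaf.map (homOfLE (h.preimage_mono (S.basicOpen_le r))).op).hom.toAlgebra
    IsLocalization.Away ((h.app U.1).hom r) Γ(Z, h ⁻¹ᵁ S.basicOpen r) :=
  letI := (Z.presheaf.map (homOfLE (h.preimage_mono (S.basicOpen_le r))).op).hom.toAlgebra
  (U.2.preimage h).isLocalization_of_eq_basicOpen _ (homOfLE (h.preimage_mono (S.basicOpen_le r)))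
    (h.preimage_basicOpen r)

theorem coequifibered :
    ((toOpensFunctor S).op.whiskerLeft (diagramMap f g a b ha hb)).Coequifibered := by
  refine coequifibered_iff_forall_isLocalizationAway.mpr fun U r => ?_
  letI iX := (X.presheaf.map (homOfLE (f.preimage_mono (S.basicOpen_le r))).op).hom.toAlgebra
  letI iY := (Y.presheaf.map (homOfLE (g.preimage_mono (S.basicOpen_le r))).op).hom.toAlgebra
  haveI hX := isLocalization_res f U r
  haveI hY := isLocalization_res g U r
  let i : S.basicOpen r ≤ U.1 := S.basicOpen_le r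
  let res : Γ(X, f ⁻¹ᵁ U.1) →+* Γ(X, f ⁻¹ᵁ S.basicOpen r) :=
    (X.presheaf.map (homOfLE (f.preimage_mono i)).op).hom
  let t : Γ(X, f ⁻¹ᵁ U.1) := (f.app U.1).hom r
  let F := eqSub f g a b ha hb U.1
  let F' := eqSub f g a b ha hb (S.basicOpen r)
  have ht : t ∈ F := app_mem f g a b ha hb r
  have hct : ∀ {c : Y ⟶ X} (hc : c ≫ f = g),
      (c.appLE (f ⁻¹ᵁ U.1) (g ⁻¹ᵁ U.1) (le_pre f g c hc U.1)).hom t = (g.app U.1).hom r := fun {c} hc => by
    simp only [t]
    rw [← CommRingCat.comp_apply, Scheme.Hom.app_eq_appLE, Scheme.Hom.appLE_comp_appLE, Scheme.Hom.app_eq_appLE]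
    simp only [hc]
  let φ : F →+* F' := ((diagram f g a b ha hb).map (homOfLE i).op).hom
  letI : Algebra F F' := φ.toAlgebra
  show IsLocalization.Away (⟨t, ht⟩ : F) F'
  have hu : IsUnit (res t) := IsLocalization.Away.algebraMap_isUnit (S := Γ(X, f ⁻¹ᵁ S.basicOpen r)) t
  refine IsLocalization.Away.mk (⟨t, ht⟩ : F) ?_ (fun s => ?_) fun x y hxy => ?_
  · refine ⟨⟨⟨res t, (φ ⟨t, ht⟩).2⟩, ⟨↑hu.unit⁻¹, ?_⟩, Subtype.ext hu.mul_val_inv, Subtype.ext hu.val_inv_mul⟩, rfl⟩
    show _ = _
    have h1 : (a.appLE _ _ (le_pre f g a ha (S.basicOpen r))).hom (res t) =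
        (b.appLE _ _ (le_pre f g b hb (S.basicOpen r))).hom (res t) := (φ ⟨t, ht⟩).2
    exact left_inv_eq_right_inv (a := (a.appLE _ _ (le_pre f g a ha (S.basicOpen r))).hom (res t))
      (by rw [← map_mul, hu.val_inv_mul, map_one])
      (by rw [h1, ← map_mul, hu.mul_val_inv, map_one])
  · obtain ⟨n, x, hx⟩ := IsLocalization.Away.surj (S := Γ(X, f ⁻¹ᵁ S.basicOpen r)) t s.1
    have e1 : algebraMap Γ(Y, g ⁻¹ᵁ U.1) Γ(Y, g ⁻¹ᵁ S.basicOpen r)
          ((a.appLE _ _ (le_pre f g a ha U.1)).hom x) =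
        algebraMap Γ(Y, g ⁻¹ᵁ U.1) Γ(Y, g ⁻¹ᵁ S.basicOpen r)
          ((b.appLE _ _ (le_pre f g b hb U.1)).hom x) := by
      show (Y.presheaf.map (homOfLE (g.preimage_mono i)).op).hom _ = (Y.presheaf.map (homOfLE (g.preimage_mono i)).op).hom _
      rw [← appLE_res f g ha i, ← appLE_res f g hb i,
        show (X.presheaf.map (homOfLE (f.preimage_mono i)).op).hom x = s.1 * res t ^ n from hx.symm,
        map_mul, map_mul, map_pow, map_pow, show _ = _ from s.2,
        show (a.appLE _ _ (le_pre f g a ha (S.basicOpen r))).hom (res t) =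
          (b.appLE _ _ (le_pre f g b hb (S.basicOpen r))).hom (res t) from (φ ⟨t, ht⟩).2]
    obtain ⟨⟨_, m, rfl⟩, hm⟩ := (IsLocalization.eq_iff_exists (Submonoid.powers ((g.app U.1).hom r))
      Γ(Y, g ⁻¹ᵁ S.basicOpen r)).1 e1
    refine ⟨n + m, ⟨x * t ^ m, ?_⟩, Subtype.ext ?_⟩
    · show _ = _
      rw [map_mul, map_mul, map_pow, map_pow, hct ha, hct hb, _root_.mul_comm, hm, _root_.mul_comm]
    · show s.1 * res t ^ (n + m) = res (x * t ^ m)
      rw [pow_add, ← _root_.mul_assoc, map_mul, map_pow]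
      exact congrArg (· * res t ^ m) hx
  · obtain ⟨⟨_, m, rfl⟩, hm⟩ := (IsLocalization.eq_iff_exists (Submonoid.powers t)
      Γ(X, f ⁻¹ᵁ S.basicOpen r)).1 (show res x.1 = res y.1 from congrArg Subtype.val hxy)
    exact ⟨m, Subtype.ext hm⟩

/-- the gluing data -/
def glueData := relativeGluingData (coequifibered f g a b ha hb)

instance : ((glueData f g a b ha hb).functor ⋙ Scheme.forget).IsLocallyDirected :=
  Scheme.Cover.RelativeGluingData.instIsLocallyDirectedI₀CompFunctorForgetOfIsThin ..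

/-- the quotient -/
def quot : Scheme.{u} := (glueData f g a b ha hb).glued

/-- its structure map -/
def fromQuot : quot f g a b ha hb ⟶ S := (glueData f g a b ha hb).toBase

/-- its cover by spectra -/
def quotCover : (quot f g a b ha hb).OpenCover := (glueData f g a b ha hb).cover

set_option backward.defeqAttrib.useBackward true in
set_option backward.isDefEq.respectTransparency false in
/-- the quotient map -/
def toQuot : X ⟶ quot f g a b ha hb :=
  Scheme.OpenCover.glueMorphismsOfLocallyDirected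
    ((directedCover S).pullback₁ f)
    (fun U =>
      (pullbackRestrictIsoRestrict f _).hom ≫
      (f ⁻¹ᵁ U.1).toSpecΓ ≫ Spec.map (CommRingCat.ofHom (eqSub f g a b ha hb U.1).subtype) ≫
        (quotCover f g a b ha hb).f U) fun {U V : S.AffineZariskiSite} i ↦ by
  have : (pullbackRestrictIsoRestrict f U.1).inv ≫
      Scheme.Cover.trans ((directedCover S).pullback₁ f) i ≫
      (pullbackRestrictIsoRestrict f V.1).hom = X.homOfLE
        (f.preimage_mono (toOpens_mono i.1.1)) := by
    rw [← cancel_mono (Scheme.Opens.ι _)]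
    simp +instances [Scheme.Cover.trans, Scheme.Cover.locallyDirectedPullbackCover]
  rw [← Iso.inv_comp_eq, reassoc_of% this, ← Scheme.Opens.toSpecΓ_SpecMap_presheaf_map_assoc,
    ← Spec.map_comp_assoc]
  dsimp [quotCover]
  rw [← colimit.w (glueData f g a b ha hb).functor i]
  dsimp [glueData, relativeGluingData]
  rw [← Spec.map_comp_assoc]
  rfl

set_option backward.defeqAttrib.useBackward true in
@[reassoc]
theorem ι_toQuot (U : S.affineOpens) :
    (f ⁻¹ᵁ U.1).ι ≫ toQuot f g a b ha hb = (f ⁻¹ᵁ U.1).toSpecΓ ≫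
      Spec.map (CommRingCat.ofHom (eqSub f g a b ha hb U.1).subtype) ≫ (quotCover f g a b ha hb).f U := by
  rw [← cancel_epi (pullbackRestrictIsoRestrict f U.1).hom, ← Category.assoc]
  trans ((directedCover S).pullback₁ f).f U ≫ toQuot f g a b ha hb
  · congr 1; simp
  delta toQuot
  generalize_proofs _ _ _ _ H
  exact Scheme.OpenCover.map_glueMorphismsOfLocallyDirected _ _ H _

@[reassoc]
theorem ι_fromQuot (U : S.affineOpens) :
    (quotCover f g a b ha hb).f U ≫ fromQuot f g a b ha hb =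
      Spec.map ((diagramMap f g a b ha hb).app (.op U.1)) ≫ U.2.fromSpec :=
  colimit.ι_desc _ _

theorem fromQuot_preimage (U : S.affineOpens) :
    fromQuot f g a b ha hb ⁻¹ᵁ U = ((quotCover f g a b ha hb).f U).opensRange := by
  simpa using! (glueData f g a b ha hb).toBase_preimage_eq_opensRange_ι U

set_option backward.isDefEq.respectTransparency false in
@[reassoc]
theorem toQuot_fromQuot : toQuot f g a b ha hb ≫ fromQuot f g a b ha hb = f := by
  refine Scheme.Cover.hom_ext (X.openCoverOfIsOpenCover _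
    (.comap (iSup_affineOpens_eq_top S) f.base.1)) _ _ fun U ↦ ?_
  refine (ι_toQuot_assoc f g a b ha hb _ _).trans ?_
  rw [ι_fromQuot, ← Spec.map_comp_assoc]
  change (f ⁻¹ᵁ U.1).toSpecΓ ≫ Spec.map (f.app _) ≫ U.2.fromSpec = (f ⁻¹ᵁ U.1).ι ≫ _
  simp

set_option backward.isDefEq.respectTransparency false in
instance isAffineHom_fromQuot : IsAffineHom (fromQuot f g a b ha hb) := by
  refine isAffineHom_of_forall_exists_isAffineOpen _ fun x => ?_
  obtain ⟨_, ⟨U, hU, rfl⟩, hx, -⟩ := S.isBasis_affineOpens.exists_subset_of_mem_open (Set.mem_univ x) isOpen_univ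
  refine ⟨U, hx, hU, ?_⟩
  rw [fromQuot_preimage f g a b ha hb ⟨U, hU⟩]
  haveI : IsAffine ((quotCover f g a b ha hb).X ⟨U, hU⟩) := inferInstanceAs (IsAffine (Spec _))
  exact isAffineOpen_opensRange _

end Groth.L14.CentQuot
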