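import Mathlib.RingTheory.Finiteness.Descent
import Mathlib.RingTheory.Flat.FaithfullyFlat.Basic
import Mathlib.RingTheory.TensorProduct.Maps
import Mathlib.RingTheory.FiniteType
import Mathlib.RingTheory.FinitePresentation
import Mathlib.Algebra.Module.Projective
import Mathlib.RingTheory.TensorProduct.MonoidAlgebra

/-!
# Free coactions of diagonalisable groups on rings

A grading given by a coaction `ρ : B → B[Λ]` for which the translates generate is strongly graded: `B` is
faithfully flat of finite presentation over the invariants and `B ⊗ B ≅ B[Λ]` over them.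
-/

set_option autoImplicit false

noncomputable section

open AddMonoidAlgebra TensorProduct
open scoped AddMonoidAlgebra

universe u v

namespace Groth.L14.CentQuot

variable {B : Type u} [CommRing B] {Λ : Type v} [AddCommGroup Λ] (ρ : B →+* B[Λ])

/-- a coaction with idempotent components, summing to the identity, whose translates generate -/
structure IsFreeCoaction : Prop where
  idem : ∀ (b : B) (l : Λ), ρ ((ρ b).coeff l) = single l ((ρ b).coeff l)
  sum : ∀ b : B, (ρ b).coeff.sum (fun _ x => x) = b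
  gen : ∀ l : Λ, single l (1 : B) ∈ Submodule.span B (Set.range ρ)

/-- the invariants -/
abbrev inv : Subring B := RingHom.eqLocus ρ (singleZeroRingHom (R := B) (M := Λ))

/-- homogeneous of a degree -/
def Hom (l : Λ) (x : B) : Prop := ρ x = single l x

theorem mem_inv {x : B} : x ∈ inv ρ ↔ Hom ρ 0 x := Iff.rfl

theorem Hom.mul {l m : Λ} {x y : B} (hx : Hom ρ l x) (hy : Hom ρ m y) : Hom ρ (l + m) (x * y) := by
  unfold Hom at *
  rw [map_mul, hx, hy, single_mul_single]

theorem coeff_single_zero (r : B) (x : B[Λ]) (n : Λ) :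
    (single (0 : Λ) r * x).coeff n = r * x.coeff n := by
  simp

theorem coeff_mul_of_hom {l : Λ} {y : B} (hy : Hom ρ l y) (x : B) (n : Λ) :
    (ρ (x * y)).coeff (n + l) = (ρ x).coeff n * y := by
  rw [map_mul, hy]
  exact AddMonoidAlgebra.coeff_mul_single_eq_coeff_mul _ (fun a _ => add_left_inj l)

/-- the components -/
def pc (l : Λ) : B →ₗ[inv ρ] B where
  toFun b := (ρ b).coeff l
  map_add' a b := by simp
  map_smul' r b := by
    show (ρ ((r : B) * b)).coeff l = (r : B) * (ρ b).coeff l
    rw [map_mul, show ρ (r : B) = single (0 : Λ) (r : B) from r.2, coeff_single_zero]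

variable {ρ} (h : IsFreeCoaction ρ)

include h

theorem hom_pc (l : Λ) (b : B) : Hom ρ l (pc ρ l b) := h.idem b l

theorem exists_unit_decomp (l : Λ) :
    ∃ (k : ℕ) (p q : Fin k → B), (∀ i, Hom ρ (-l) (p i)) ∧ (∀ i, Hom ρ l (q i)) ∧ ∑ i, p i * q i = 1 := by
  obtain ⟨c, hc⟩ := Finsupp.mem_span_range_iff_exists_finsupp.1 (h.gen l)
  have h1 : c.sum (fun b r => r * pc ρ l b) = 1 := by
    have := congrArg (fun x : B[Λ] => x.coeff l) hc
    simpa [Finsupp.sum, pc] using this
  have h2 : ∑ b ∈ c.support, pc ρ (-l) (c b) * pc ρ l b = 1 := by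
    have e := congrArg (pc ρ (0 : Λ)) h1
    rw [map_finsuppSum] at e
    have e1 : pc ρ 0 (1 : B) = 1 := by
      show (ρ 1).coeff 0 = 1
      simp [AddMonoidAlgebra.one_def]
    rw [e1] at e
    refine Eq.trans (Finset.sum_congr rfl fun b _ => ?_) e
    have := coeff_mul_of_hom ρ (hom_pc h l b) (c b) (-l)
    rw [neg_add_cancel] at this
    exact this.symm
  refine ⟨c.support.card, fun i => pc ρ (-l) (c (c.support.equivFin.symm i)), fun i => pc ρ l (c.support.equivFin.symm i : B),
    fun i => hom_pc h _ _, fun i => hom_pc h _ _, ?_⟩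
  rw [← h2, ← Finset.sum_coe_sort c.support]
  exact Fintype.sum_equiv c.support.equivFin.symm _ _ fun i => rfl

/-- the number of terms in a decomposition of the unit -/
def num (l : Λ) : ℕ := (exists_unit_decomp h l).choose
/-- left factors -/
def pf (l : Λ) : Fin (num h l) → B := (exists_unit_decomp h l).choose_spec.choose
/-- right factors -/
def qf (l : Λ) : Fin (num h l) → B := (exists_unit_decomp h l).choose_spec.choose_spec.choose

theorem hom_pf (l : Λ) (i : Fin (num h l)) : Hom ρ (-l) (pf h l i) :=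
  (exists_unit_decomp h l).choose_spec.choose_spec.choose_spec.1 i
theorem hom_qf (l : Λ) (i : Fin (num h l)) : Hom ρ l (qf h l i) :=
  (exists_unit_decomp h l).choose_spec.choose_spec.choose_spec.2.1 i
theorem sum_pf_qf (l : Λ) : ∑ i, pf h l i * qf h l i = 1 :=
  (exists_unit_decomp h l).choose_spec.choose_spec.choose_spec.2.2

theorem pc_mul_pf_mem (l : Λ) (c : B) (i : Fin (num h l)) : pc ρ l c * pf h l i ∈ inv ρ := by
  have := Hom.mul ρ (hom_pc h l c) (hom_pf h l i)
  rwa [add_neg_cancel] at this

omit h in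
/-- the comparison map -/
def theta (ρ : B →+* B[Λ]) : B ⊗[inv ρ] B →ₐ[B] B[Λ] :=
  Algebra.TensorProduct.lift (Algebra.ofId B B[Λ])
    ({ ρ with commutes' := fun r => r.2 } : B →ₐ[inv ρ] B[Λ]) fun _ _ => Commute.all _ _

omit h in
theorem theta_tmul (b c : B) : theta ρ (b ⊗ₜ c) = single (0 : Λ) b * ρ c := rfl

theorem bijective_theta : Function.Bijective (theta ρ) := by
  let f : Λ → B →+ B ⊗[inv ρ] B := fun l =>
    AddMonoidHom.mk' (fun b => ∑ i, (b * pf h l i) ⊗ₜ[inv ρ] qf h l i) fun a b => by
      simp [add_mul, TensorProduct.add_tmul, Finset.sum_add_distrib]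
  let g : B[Λ] →+ B ⊗[inv ρ] B :=
    AddMonoidHom.mk' (fun x => x.coeff.sum fun l b => f l b) fun x y => by
      rw [AddMonoidAlgebra.coeff_add]
      exact Finsupp.sum_add_index' (fun l => map_zero _) fun l => map_add _
  have hg : ∀ l b, g (single l b) = f l b := fun l b =>
    Finsupp.sum_single_index (h := fun l b => f l b) (map_zero _)
  have hright : ∀ x, theta ρ (g x) = x := by
    intro x
    induction x using AddMonoidAlgebra.induction_linear with
    | zero => simp
    | add a b ha hb => rw [map_add, map_add, ha, hb]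
    | single l b =>
      rw [hg]
      show theta ρ (∑ i, (b * pf h l i) ⊗ₜ[inv ρ] qf h l i) = _
      rw [map_sum]
      simp only [theta_tmul, show ∀ i, ρ (qf h l i) = single l (qf h l i) from hom_qf h l, single_mul_single, zero_add]
      rw [show ∀ g : Fin (num h l) → B, ∑ i, single l (g i) = single l (∑ i, g i) from fun g =>
        (map_sum (AddMonoidAlgebra.singleAddHom l : B →+ B[Λ]) g Finset.univ).symm]
      congr 1
      simp only [mul_assoc, ← Finset.mul_sum, sum_pf_qf, mul_one]
  have hleft : ∀ x, g (theta ρ x) = x := by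
    intro x
    induction x using TensorProduct.induction_on with
    | zero => simp
    | add a b ha hb => rw [map_add, map_add, ha, hb]
    | tmul b c =>
      rw [theta_tmul]
      have hx : single (0 : Λ) b * ρ c = ∑ l ∈ (ρ c).coeff.support, single l (b * pc ρ l c) := by
        conv_lhs => rw [← AddMonoidAlgebra.sum_coeff_single (ρ c)]
        rw [Finsupp.sum, Finset.mul_sum]
        exact Finset.sum_congr rfl fun l _ => by rw [single_mul_single, zero_add]; rfl
      rw [hx, map_sum]
      simp only [hg]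
      conv_rhs => rw [← h.sum c, Finsupp.sum, TensorProduct.tmul_sum]
      refine Finset.sum_congr rfl fun l _ => ?_
      show ∑ i, (b * pc ρ l c * pf h l i) ⊗ₜ[inv ρ] qf h l i = b ⊗ₜ[inv ρ] (pc ρ l c)
      have he : ∀ i, (b * pc ρ l c * pf h l i) ⊗ₜ[inv ρ] qf h l i =
          b ⊗ₜ[inv ρ] (pc ρ l c * pf h l i * qf h l i) := fun i => by
        have hm := pc_mul_pf_mem h l c i
        rw [show b * pc ρ l c * pf h l i = (⟨_, hm⟩ : inv ρ) • b from by
          show _ = pc ρ l c * pf h l i * b; ring, TensorProduct.smul_tmul]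
        rfl
      rw [Finset.sum_congr rfl fun i _ => he i, ← TensorProduct.tmul_sum]
      simp only [mul_assoc, ← Finset.mul_sum, sum_pf_qf, mul_one]
  exact ⟨fun a b e => by rw [← hleft a, e, hleft b], fun x => ⟨g x, hright x⟩⟩

theorem projective : Module.Projective (inv ρ) B := by
  classical
  let P := (Σ l : Λ, Fin (num h l)) →₀ inv ρ
  let c0 : B →ₗ[inv ρ] (Λ →₀ B) :=
    { toFun := fun b => (ρ b).coeff
      map_add' := fun a b => by simp
      map_smul' := fun r b => Finsupp.ext fun l => (pc ρ l).map_smul r b }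
  let z : B →ₗ[inv ρ] inv ρ :=
    { toFun := fun b => ⟨pc ρ 0 b, hom_pc h 0 b⟩
      map_add' := fun a b => Subtype.ext (map_add _ a b)
      map_smul' := fun r b => Subtype.ext ((pc ρ 0).map_smul r b) }
  let part : Λ → B →ₗ[inv ρ] P := fun l =>
    ∑ i, (Finsupp.lsingle (⟨l, i⟩ : Σ l : Λ, Fin (num h l))).comp (z.comp (LinearMap.mulRight (inv ρ) (pf h l i)))
  let i₀ : B →ₗ[inv ρ] P := (Finsupp.lsum (inv ρ) part).comp c0
  let s : P →ₗ[inv ρ] B := Finsupp.linearCombination (inv ρ) fun x : Σ l : Λ, Fin (num h l) => qf h x.1 x.2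
  refine Module.Projective.of_split i₀ s (LinearMap.ext fun b => ?_)
  show s (Finsupp.lsum (inv ρ) part (ρ b).coeff) = b
  rw [Finsupp.lsum_apply, map_finsuppSum]
  conv_rhs => rw [← h.sum b]
  refine Finset.sum_congr rfl fun l _ => ?_
  show s (part l (pc ρ l b)) = pc ρ l b
  simp only [part, LinearMap.sum_apply, map_sum, LinearMap.comp_apply, Finsupp.lsingle_apply, s,
    Finsupp.linearCombination_single]
  have he : ∀ i, (z (LinearMap.mulRight (inv ρ) (pf h l i) (pc ρ l b))) • qf h l i =
      pc ρ l b * pf h l i * qf h l i := fun i => by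
    show pc ρ 0 (pc ρ l b * pf h l i) * _ = _
    congr 1
    have hm : ρ (pc ρ l b * pf h l i) = single (0 : Λ) (pc ρ l b * pf h l i) := pc_mul_pf_mem h l b i
    show (ρ _).coeff 0 = _
    rw [hm]
    simp
  simp only [mul_assoc] at he
  refine (Finset.sum_congr rfl fun i _ => ?_).trans ((Finset.mul_sum _ _ _).symm.trans (by rw [sum_pf_qf, mul_one]))
  refine Eq.trans ?_ (he i)
  exact (Finsupp.linearCombination_single _ _ _)

theorem faithfullyFlat : Module.FaithfullyFlat (inv ρ) B := by
  haveI := projective h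
  refine { submodule_ne_top := fun m hm e => hm.ne_top ((Ideal.eq_top_iff_one m).2 ?_) }
  have key : ∀ x ∈ m • (⊤ : Submodule (inv ρ) B), (⟨pc ρ 0 x, hom_pc h 0 x⟩ : inv ρ) ∈ m := by
    intro x hx
    refine Submodule.smul_induction_on hx (fun r hr y _ => ?_) (fun a b ha hb => ?_)
    · have : (⟨pc ρ 0 (r • y), hom_pc h 0 _⟩ : inv ρ) = r * ⟨pc ρ 0 y, hom_pc h 0 y⟩ :=
        Subtype.ext ((pc ρ 0).map_smul r y)
      rw [this]
      exact m.mul_mem_right _ hr
    · have : (⟨pc ρ 0 (a + b), hom_pc h 0 _⟩ : inv ρ) = ⟨pc ρ 0 a, hom_pc h 0 a⟩ + ⟨pc ρ 0 b, hom_pc h 0 b⟩ :=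
        Subtype.ext (map_add _ a b)
      rw [this]
      exact m.add_mem ha hb
  have h1 := key 1 (by rw [e]; exact Submodule.mem_top)
  convert h1 using 1
  refine Subtype.ext ?_
  show (1 : B) = (ρ 1).coeff 0
  simp [AddMonoidAlgebra.one_def]

omit h in
theorem finitePresentation_algebra [AddMonoid.FG Λ] : Algebra.FinitePresentation B B[Λ] := by
  haveI : Algebra.FinitePresentation ℤ ℤ[Λ] := Algebra.FinitePresentation.of_finiteType.1 inferInstance
  exact Algebra.FinitePresentation.equiv (AddMonoidAlgebra.scalarTensorEquiv ℤ B : B ⊗[ℤ] ℤ[Λ] ≃ₐ[B] B[Λ])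

theorem finitePresentation [AddMonoid.FG Λ] : Algebra.FinitePresentation (inv ρ) B := by
  haveI := faithfullyFlat h
  haveI : Algebra.FinitePresentation B (B ⊗[inv ρ] B) :=
    (finitePresentation_algebra (B := B) (Λ := Λ)).equiv (AlgEquiv.ofBijective (theta ρ) (bijective_theta h)).symm
  exact Algebra.FinitePresentation.of_finitePresentation_tensorProduct_of_faithfullyFlat B

end Groth.L14.CentQuot
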