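import Groth.Agent.L14.CentQuot.Aff
import Groth.Agent.L14.CentQuot.Graded
import Groth.Agent.L14.CentQuot.EqGlue
import Mathlib.AlgebraicGeometry.Morphisms.ClosedImmersion
import Mathlib.RingTheory.Adjoin.Basic

/-!
# The coaction of a diagonalisable subgroup on the functions of a group
-/

set_option autoImplicit false
set_option backward.isDefEq.respectTransparency.types false
set_option linter.style.haveILetI false
set_option maxHeartbeats 1000000

universe u

open CategoryTheory CategoryTheory.Limits MonoidalCategory CartesianMonoidalCategory MonObj AlgebraicGeometry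
open Groth.L25
open AddMonoidAlgebra
open scoped AddMonoidAlgebra

noncomputable section

namespace Groth.L14.CentQuot

theorem appLE_surjective {X Y : Scheme.{u}} (f : X ⟶ Y) [IsClosedImmersion f] {U : Y.Opens} {V : X.Opens}
    (hU : IsAffineOpen U) (h : V = f ⁻¹ᵁ U) : Function.Surjective (f.appLE U V h.le) := by
  subst h
  rw [← Scheme.Hom.app_eq_appLE]
  exact f.app_surjective U hU

variable {S : Scheme.{u}}

theorem pK_comp {U : S.affineOpens} {K : Type u} [CommRing K] (ϑ : Γ(S, U.1) →+* K) {X G : Over S}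
    (x : aff U K ϑ ⟶ X) (f : X ⟶ G) :
    pK ϑ (x ≫ f) = (pK ϑ x).comp
      (f.left.appLE (G.hom ⁻¹ᵁ U.1) (X.hom ⁻¹ᵁ U.1) (le_pre G.hom X.hom f.left (Over.w f) U.1)).hom := by
  simp only [pK, pts, Over.comp_left]
  rw [← CommRingCat.hom_comp, ← Category.assoc, Scheme.Hom.appLE_comp_appLE]

variable {G : Over S} [GrpObj G] [IsAffineHom G.hom] {Λ : Type} [AddCommGroup Λ]
  (i : Red.DS S Λ ⟶ G) [hi : IsMonHom i] (U : S.affineOpens)

/-- the functions on the part of the group over `U` -/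
abbrev Fn (G : Over S) (U : S.affineOpens) : CommRingCat := Γ(G.left, G.hom ⁻¹ᵁ U.1)

variable (G Λ) in
/-- the structure map of the universal ring -/
abbrev sT : Γ(S, U.1) →+* (Fn G U)[Λ] := (singleZeroRingHom (R := Fn G U) (M := Λ)).comp (G.hom.app U.1).hom

variable (G Λ) in
/-- the universal point of the group -/
def g0 : aff U (Fn G U)[Λ] (sT G Λ U) ⟶ G := mkK _ singleZeroRingHom rfl

variable (G Λ) in
/-- the universal point of the diagonalisable group -/
def t0 : aff U (Fn G U)[Λ] (sT G Λ U) ⟶ Red.DS S Λ := ptK _ (AddMonoidAlgebra.of (Fn G U) Λ)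

/-- the coaction -/
def rho : Fn G U →+* (Fn G U)[Λ] := pK _ (g0 G Λ U * (t0 G Λ U ≫ i))

variable {U}

/-- evaluation at a point and a character -/
def evalAt {K : Type u} [CommRing K] (φ : Fn G U →+* K) (χ : Multiplicative Λ →* K) : (Fn G U)[Λ] →+* K :=
  AddMonoidAlgebra.liftNCRingHom φ χ fun _ _ => Commute.all _ _

omit [GrpObj G] [IsAffineHom G.hom] in
theorem evalAt_single {K : Type u} [CommRing K] (φ : Fn G U →+* K) (χ : Multiplicative Λ →* K) (l : Λ) (b : Fn G U) :
    evalAt φ χ (single l b) = φ b * χ (Multiplicative.ofAdd l) :=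
  AddMonoidAlgebra.liftNCRingHom_single _ _ _ _ _

omit [GrpObj G] [IsAffineHom G.hom] in
theorem evalAt_apply {K : Type u} [CommRing K] (φ : Fn G U →+* K) (χ : Multiplicative Λ →* K) (p : (Fn G U)[Λ]) :
    evalAt φ χ p = p.coeff.sum fun l b => φ b * χ (Multiplicative.ofAdd l) := by
  induction p using AddMonoidAlgebra.induction_linear with
  | zero => simp
  | add a b ha hb =>
    rw [map_add, ha, hb, AddMonoidAlgebra.coeff_add, Finsupp.sum_add_index'] <;> simp [add_mul]
  | single l b => rw [evalAt_single, AddMonoidAlgebra.coeff_single, Finsupp.sum_single_index]; simp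

theorem pK_act {K : Type u} [CommRing K] (ϑ : Γ(S, U.1) →+* K) (x : aff U K ϑ ⟶ G) (t : aff U K ϑ ⟶ Red.DS S Λ) :
    pK ϑ (x * (t ≫ i)) = (evalAt (pK ϑ x) (chK ϑ t)).comp (rho i U) := by
  let ψ := evalAt (pK ϑ x) (chK ϑ t)
  have hψ : ψ.comp (sT G Λ U) = ϑ := RingHom.ext fun r => by
    show ψ (single 0 ((G.hom.app U.1).hom r)) = ϑ r
    rw [evalAt_single, ofAdd_zero, map_one, _root_.mul_one]
    exact DFunLike.congr_fun (pK_hom ϑ x) r
  have hx : mapK _ _ ψ hψ ≫ g0 G Λ U = x := pK_injective _ (by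
    rw [pK_mapK, g0, pK_mkK]
    refine RingHom.ext fun b => ?_
    show ψ (single 0 b) = _
    rw [evalAt_single, ofAdd_zero, map_one, _root_.mul_one])
  have ht : mapK _ _ ψ hψ ≫ t0 G Λ U = t := chK_injective _ (by
    rw [chK_mapK, t0, chK_ptK]
    refine MonoidHom.ext fun m => ?_
    show ψ (single m.toAdd 1) = _
    rw [evalAt_single, map_one, _root_.one_mul, ofAdd_toAdd])
  rw [rho, ← pK_mapK (sT G Λ U) ϑ ψ hψ, MonObj.comp_mul, hx, ← Category.assoc, ht]

variable (U)

theorem coaction_sum (b : Fn G U) : (rho i U b).coeff.sum (fun _ x => x) = b := by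
  let ϑ : Γ(S, U.1) →+* Fn G U := (G.hom.app U.1).hom
  let x : aff U (Fn G U) ϑ ⟶ G := mkK ϑ (RingHom.id _) rfl
  have h := DFunLike.congr_fun (pK_act i ϑ x 1) b
  rw [MonObj.one_comp, _root_.mul_one, pK_mkK, chK_one] at h
  rw [RingHom.comp_apply, evalAt_apply] at h
  refine Eq.trans ?_ h.symm
  simp

include hi in
theorem coaction_idem (b : Fn G U) (l : Λ) :
    rho i U ((rho i U b).coeff l) = single l ((rho i U b).coeff l) := by
  classical
  let K := (Fn G U)[Λ × Λ]
  let ϑ : Γ(S, U.1) →+* K := (singleZeroRingHom (R := Fn G U) (M := Λ × Λ)).comp (G.hom.app U.1).hom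
  let x : aff U K ϑ ⟶ G := mkK ϑ singleZeroRingHom rfl
  let χ₁ : Multiplicative Λ →* K :=
    (AddMonoidAlgebra.of (Fn G U) (Λ × Λ)).comp (AddMonoidHom.toMultiplicative (AddMonoidHom.inl Λ Λ))
  let χ₂ : Multiplicative Λ →* K :=
    (AddMonoidAlgebra.of (Fn G U) (Λ × Λ)).comp (AddMonoidHom.toMultiplicative (AddMonoidHom.inr Λ Λ))
  let z₁ : aff U K ϑ ⟶ Red.DS S Λ := ptK ϑ χ₁
  let z₂ : aff U K ϑ ⟶ Red.DS S Λ := ptK ϑ χ₂
  have hh : (z₁ * z₂) ≫ i = (z₁ ≫ i) * (z₂ ≫ i) := @MonObj.mul_comp _ _ _ _ _ _ _ _ z₁ z₂ i hi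
  have h := DFunLike.congr_fun (pK_act i ϑ (x * (z₁ ≫ i)) z₂) b
  rw [_root_.mul_assoc, ← hh, pK_act i ϑ x (z₁ * z₂), pK_act i ϑ x z₁] at h
  simp only [RingHom.comp_apply, chK_mul, chK_ptK, z₁, z₂, x, pK_mkK] at h
  rw [evalAt_apply, evalAt_apply] at h
  have e1 : ∀ m n : Λ, χ₁ (Multiplicative.ofAdd m) * χ₂ (Multiplicative.ofAdd n) = single (m, n) (1 : Fn G U) := fun m n => by
    show single (m, (0 : Λ)) (1 : Fn G U) * single ((0 : Λ), n) 1 = _
    rw [single_mul_single, _root_.mul_one, Prod.mk_add_mk, add_zero, zero_add]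
  refine AddMonoidAlgebra.ext (Finsupp.ext fun m => ?_)
  let ev : K →+ Fn G U := AddMonoidHom.mk' (fun p => p.coeff (m, l)) fun p q => by
    rw [AddMonoidAlgebra.coeff_add, Finsupp.add_apply]
  have hc := congrArg ev h
  have hL : ∀ (k : Λ) (c : Fn G U),
      ((singleZeroRingHom c : K) * (χ₁ * χ₂) (Multiplicative.ofAdd k)).coeff (m, l) =
        if (k, k) = (m, l) then c else 0 := fun k c => by
    rw [MonoidHom.mul_apply, e1]
    show (single (0 : Λ × Λ) c * single (k, k) 1).coeff (m, l) = _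
    rw [single_mul_single, zero_add, _root_.mul_one, AddMonoidAlgebra.coeff_single, Finsupp.single_apply]
  have hR : ∀ (k : Λ) (c : Fn G U),
      ((evalAt (singleZeroRingHom : Fn G U →+* K) χ₁ (rho i U c)) * χ₂ (Multiplicative.ofAdd k)).coeff (m, l) =
        if k = l then (rho i U c).coeff m else 0 := fun k c => by
    rw [evalAt_apply, Finsupp.sum, Finset.sum_mul, AddMonoidAlgebra.coeff_sum, Finsupp.coe_finset_sum,
      Finset.sum_apply]
    have : ∀ j, ((singleZeroRingHom ((rho i U c).coeff j) : K) * χ₁ (Multiplicative.ofAdd j) *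
        χ₂ (Multiplicative.ofAdd k)).coeff (m, l) = if (j, k) = (m, l) then (rho i U c).coeff j else 0 := fun j => by
      rw [_root_.mul_assoc, e1]
      rw [show (singleZeroRingHom ((rho i U c).coeff j) : K) = single (0 : Λ × Λ) ((rho i U c).coeff j) from rfl,
        single_mul_single, zero_add, _root_.mul_one, AddMonoidAlgebra.coeff_single, Finsupp.single_apply]
    rw [Finset.sum_congr rfl fun j _ => this j]
    by_cases hk : k = l
    · subst hk
      simp only [Prod.mk.injEq, and_true, Finset.sum_ite_eq', Finsupp.mem_support_iff, if_true]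
      split_ifs with h0
      · rfl
      · exact (not_not.1 h0).symm
    · simp [hk]
  have hL' : ∀ (k : Λ) (c : Fn G U), ev ((singleZeroRingHom c : K) * (χ₁ * χ₂) (Multiplicative.ofAdd k)) =
      if (k, k) = (m, l) then c else 0 := hL
  have hR' : ∀ (k : Λ) (c : Fn G U),
      ev (((evalAt (singleZeroRingHom : Fn G U →+* K) χ₁).comp (rho i U)) c * χ₂ (Multiplicative.ofAdd k)) =
        if k = l then (rho i U c).coeff m else 0 := hR
  simp only [Finsupp.sum, map_sum, hL', hR', Finset.sum_ite_eq'] at hc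
  rw [AddMonoidAlgebra.coeff_single, Finsupp.single_apply]
  by_cases hlm : l = m
  · subst hlm
    rw [if_pos rfl]
    simp only [Prod.mk.injEq, and_self, Finset.sum_ite_eq'] at hc
    split_ifs at hc with h1
    · exact hc.symm
    · rw [Finsupp.mem_support_iff, not_not] at h1
      rw [h1, map_zero]; simp
  · rw [if_neg hlm]
    have hz : ∀ k : Λ, ¬ ((k, k) = (m, l)) := fun k hk => hlm (by
      rw [Prod.mk.injEq] at hk; exact hk.2.symm.trans hk.1)
    simp only [hz, if_false, Finset.sum_const_zero] at hc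
    split_ifs at hc with h1
    · exact hc.symm
    · rw [Finsupp.mem_support_iff, not_not] at h1
      rw [h1, map_zero]; simp

theorem coaction_gen [IsClosedImmersion i.left] (l : Λ) :
    single l (1 : Fn G U) ∈ Submodule.span (Fn G U) (Set.range (rho i U)) := by
  let K := (Fn G U)[Λ]
  let A : Subalgebra (Fn G U) K := Algebra.adjoin (Fn G U) (Set.range (rho i U))
  suffices hA : (single l 1 : K) ∈ A by
    have e : Subalgebra.toSubmodule A = Submodule.span (Fn G U) (Set.range (rho i U)) := by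
      rw [Algebra.adjoin_eq_span]
      congr 1
      rw [show Set.range (rho i U) = ↑(MonoidHom.mrange (rho i U : Fn G U →* K)) from rfl, Submonoid.closure_eq]
    rw [← e]
    exact hA
  haveI : IsAffineHom (Red.DS S Λ).hom := by rw [← Over.w i]; infer_instance
  let incl : A →+* K := A.val.toRingHom
  let sA : Γ(S, U.1) →+* A := ((algebraMap (Fn G U) A)).comp (G.hom.app U.1).hom
  have hincl : incl.comp sA = sT G Λ U := RingHom.ext fun r => rfl
  let xA : aff U A sA ⟶ G := mkK sA (algebraMap (Fn G U) A) rfl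
  let yA : aff U A sA ⟶ G := mkK sA ((rho i U).codRestrict A fun b => Algebra.subset_adjoin ⟨b, rfl⟩)
    (RingHom.ext fun r => Subtype.ext (DFunLike.congr_fun (pK_hom (sT G Λ U) (g0 G Λ U * (t0 G Λ U ≫ i))) r))
  have hx : mapK _ _ incl hincl ≫ xA = g0 G Λ U := pK_injective _ (by
    rw [pK_mapK, pK_mkK, g0, pK_mkK]; rfl)
  have hy : mapK _ _ incl hincl ≫ yA = g0 G Λ U * (t0 G Λ U ≫ i) := pK_injective _ (by
    rw [pK_mapK, pK_mkK]; rfl)
  have hmem : ∀ b, pK (sT G Λ U) (t0 G Λ U ≫ i) b ∈ A := fun b => by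
    have h : mapK _ _ incl hincl ≫ (xA⁻¹ * yA) = t0 G Λ U ≫ i := by
      rw [MonObj.comp_mul, GrpObj.comp_inv, hx, hy, inv_mul_cancel_left]
    rw [← h, pK_mapK]
    exact (pK sA (xA⁻¹ * yA) b).2
  let sD : Γ(S, U.1) →+* Fn (Red.DS S Λ) U := ((Red.DS S Λ).hom.app U.1).hom
  let σ : aff U (Fn (Red.DS S Λ) U) sD ⟶ Red.DS S Λ := mkK sD (RingHom.id _) rfl
  obtain ⟨b, hb⟩ := appLE_surjective i.left (U.2.preimage G.hom) (V := (Red.DS S Λ).hom ⁻¹ᵁ U.1)
    (by rw [← Scheme.Hom.comp_preimage, Over.w i]) (chK sD σ (Multiplicative.ofAdd l))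
  have hψ : (pK (sT G Λ U) (t0 G Λ U)).comp sD = sT G Λ U := pK_hom _ _
  have ht : mapK sD _ (pK (sT G Λ U) (t0 G Λ U)) hψ ≫ σ = t0 G Λ U := pK_injective _ (by
    rw [pK_mapK, pK_mkK, RingHom.comp_id])
  have h1 : chK (sT G Λ U) (t0 G Λ U) (Multiplicative.ofAdd l) = single l 1 := by
    rw [t0, chK_ptK]; rfl
  rw [← h1, ← ht, chK_mapK]
  show pK (sT G Λ U) (t0 G Λ U) (chK sD σ (Multiplicative.ofAdd l)) ∈ A
  rw [← hb]
  have := hmem b
  rwa [pK_comp] at this

include hi in
/-- **the coaction of a closed diagonalisable subgroup is free** -/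
theorem isFreeCoaction [IsClosedImmersion i.left] : IsFreeCoaction (rho i U) :=
  ⟨coaction_idem i U, coaction_sum i U, coaction_gen i U⟩

/-- the action of the subgroup -/
abbrev act : G ⊗ Red.DS S Λ ⟶ G := fst G (Red.DS S Λ) * (snd G (Red.DS S Λ) ≫ i)

theorem act_w : (act i).left ≫ G.hom = (G ⊗ Red.DS S Λ).hom := Over.w (act i)

theorem fst_w : (fst G (Red.DS S Λ)).left ≫ G.hom = (G ⊗ Red.DS S Λ).hom := Over.w (fst G (Red.DS S Λ))

theorem isAffineHom_tensor [IsClosedImmersion i.left] : IsAffineHom (G ⊗ Red.DS S Λ).hom := by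
  haveI : IsAffineHom (Red.DS S Λ).hom := by rw [← Over.w i]; infer_instance
  haveI : IsAffineHom (pullback.fst G.hom (Red.DS S Λ).hom) :=
    MorphismProperty.pullback_fst (P := @IsAffineHom) _ _ inferInstance
  exact inferInstanceAs (IsAffineHom (pullback.fst G.hom (Red.DS S Λ).hom ≫ G.hom))

/-- the invariant functions are the invariants of the coaction -/
theorem eqSub_eq_inv [IsClosedImmersion i.left] :
    eqSub G.hom (G ⊗ Red.DS S Λ).hom (fst G (Red.DS S Λ)).left (act i).left (Over.w (fst G (Red.DS S Λ)))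
      (Over.w (act i)) U.1 = inv (rho i U) := by
  haveI := isAffineHom_tensor i
  let P := G ⊗ Red.DS S Λ
  refine SetLike.ext fun b => ⟨fun hb => ?_, fun hb => ?_⟩
  · let p0 : aff U _ (sT G Λ U) ⟶ P := lift (g0 G Λ U) (t0 G Λ U)
    have h1 : pK (sT G Λ U) (p0 ≫ fst _ _) b = pK (sT G Λ U) (p0 ≫ act i) b := by
      rw [pK_comp, pK_comp]
      exact congrArg (pK (sT G Λ U) p0) hb
    rw [lift_fst, MonObj.comp_mul, lift_fst, lift_snd_assoc, g0, pK_mkK] at h1
    exact h1.symm
  · let sP : Γ(S, U.1) →+* Fn P U := (P.hom.app U.1).hom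
    let σ : aff U (Fn P U) sP ⟶ P := mkK sP (RingHom.id _) rfl
    have h1 : pK sP (σ ≫ fst _ _) b = pK sP (σ ≫ act i) b := by
      rw [MonObj.comp_mul, ← Category.assoc, pK_act, RingHom.comp_apply, show rho i U b = single 0 b from hb,
        evalAt_single, ofAdd_zero, map_one, _root_.mul_one]
    rw [pK_comp, pK_comp, pK_mkK] at h1
    exact h1

end Groth.L14.CentQuot
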