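import Mathlib.AlgebraicGeometry.AffineScheme
import Mathlib.CategoryTheory.Comma.Over.Basic

/-!
# Points with values in affine schemes over an affine open
-/

set_option autoImplicit false
set_option backward.isDefEq.respectTransparency.types false
set_option linter.style.haveILetI false

universe u

open CategoryTheory AlgebraicGeometry

noncomputable section

namespace Groth.L14.CentQuot

variable {S : Scheme.{u}} {G T T' : Over S} {U : S.Opens}

/-- `T` lies over `U` -/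
abbrev Lies (T : Over S) (U : S.Opens) : Prop := ⊤ ≤ T.hom ⁻¹ᵁ U

theorem le_of_lies (hT : Lies T U) (x : T ⟶ G) : ⊤ ≤ x.left ⁻¹ᵁ (G.hom ⁻¹ᵁ U) := by
  rw [← Scheme.Hom.comp_preimage, Over.w x]
  exact hT

theorem lies_of_hom (hT : Lies T U) (ω : T' ⟶ T) : Lies T' U := by
  show ⊤ ≤ T'.hom ⁻¹ᵁ U
  rw [← Over.w ω, Scheme.Hom.comp_preimage]
  exact fun x _ => hT (x := ω.left.base x) trivial

/-- the ring map of a point -/
def pts (hT : Lies T U) (x : T ⟶ G) : Γ(G.left, G.hom ⁻¹ᵁ U) ⟶ Γ(T.left, ⊤) :=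
  x.left.appLE (G.hom ⁻¹ᵁ U) ⊤ (le_of_lies hT x)

theorem pts_comp (hT : Lies T U) (hT' : Lies T' U) (ω : T' ⟶ T) (x : T ⟶ G) :
    pts hT' (ω ≫ x) = pts hT x ≫ ω.left.appTop := by
  rw [pts, pts, show ω.left.appTop = ω.left.appLE ⊤ ⊤ le_top from Scheme.Hom.app_eq_appLE (f := ω.left),
    Scheme.Hom.appLE_comp_appLE]
  rfl

theorem pts_hom (hT : Lies T U) (x : T ⟶ G) : G.hom.app U ≫ pts hT x = T.hom.appLE U ⊤ hT := by
  rw [pts, Scheme.Hom.app_eq_appLE, Scheme.Hom.appLE_comp_appLE]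
  simp only [Over.w x]

variable (hV : IsAffineOpen (G.hom ⁻¹ᵁ U)) [IsAffine T.left]

include hV in
theorem left_eq (hT : Lies T U) (x : T ⟶ G) :
    x.left = T.left.isoSpec.hom ≫ Spec.map (pts hT x) ≫ hV.fromSpec := by
  rw [pts, IsAffineOpen.SpecMap_appLE_fromSpec x.left hV (isAffineOpen_top T.left), IsAffineOpen.fromSpec_top,
    Iso.hom_inv_id_assoc]

include hV in
theorem pts_injective (hT : Lies T U) {x y : T ⟶ G} (h : pts hT x = pts hT y) : x = y :=
  Over.OverMorphism.ext (by rw [left_eq hV hT x, left_eq hV hT y, h])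

/-- the point of a ring map -/
def mkPt (hU : IsAffineOpen U) (hT : Lies T U) (φ : Γ(G.left, G.hom ⁻¹ᵁ U) ⟶ Γ(T.left, ⊤))
    (hφ : G.hom.app U ≫ φ = T.hom.appLE U ⊤ hT) : T ⟶ G :=
  Over.homMk (T.left.isoSpec.hom ≫ Spec.map φ ≫ hV.fromSpec) (by
    rw [Category.assoc, Category.assoc, ← IsAffineOpen.SpecMap_appLE_fromSpec G.hom hU hV le_rfl, ← Spec.map_comp_assoc,
      ← Scheme.Hom.app_eq_appLE, hφ, IsAffineOpen.SpecMap_appLE_fromSpec T.hom hU (isAffineOpen_top T.left),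
      IsAffineOpen.fromSpec_top, Iso.hom_inv_id_assoc])

theorem pts_mkPt (hU : IsAffineOpen U) (hT : Lies T U) (φ : Γ(G.left, G.hom ⁻¹ᵁ U) ⟶ Γ(T.left, ⊤))
    (hφ : G.hom.app U ≫ φ = T.hom.appLE U ⊤ hT) : pts hT (mkPt hV hU hT φ hφ) = φ := by
  have h := left_eq hV hT (mkPt hV hU hT φ hφ)
  change T.left.isoSpec.hom ≫ Spec.map φ ≫ hV.fromSpec = _ at h
  rw [cancel_epi, cancel_mono] at h
  exact (Spec.map_injective h).symm

end Groth.L14.CentQuot
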