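import Groth.Agent.L14.CentQuot.Coaction
import Groth.Agent.L25.SplitSub.Glue
import Groth.Agent.S5236
import Mathlib.AlgebraicGeometry.Morphisms.Flat
import Mathlib.AlgebraicGeometry.Morphisms.FinitePresentation
import Mathlib.AlgebraicGeometry.Morphisms.UnderlyingMap

/-!
# The quotient of an affine group by a closed diagonalisable subgroup
-/

set_option autoImplicit false
set_option backward.isDefEq.respectTransparency.types false
set_option linter.style.haveILetI false
set_option linter.unusedSectionVars false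
set_option maxHeartbeats 1000000

universe u

open CategoryTheory CategoryTheory.Limits MonoidalCategory CartesianMonoidalCategory MonObj AlgebraicGeometry
open Groth.L25
open AddMonoidAlgebra
open scoped AddMonoidAlgebra

noncomputable section

namespace Groth.L14.CentQuot

variable {S : Scheme.{u}} {G : Over S} [GrpObj G] [IsAffineHom G.hom] {Λ : Type} [AddCommGroup Λ]
  (i : Red.DS S Λ ⟶ G) [hi : IsMonHom i] [hc : IsClosedImmersion i.left]

/-- the sheet of invariants -/
abbrev eqS (U : S.affineOpens) : Subring Γ(G.left, G.hom ⁻¹ᵁ U.1) :=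
  eqSub G.hom (G ⊗ Red.DS S Λ).hom (fst G (Red.DS S Λ)).left (act i).left (Over.w (fst G (Red.DS S Λ)))
    (Over.w (act i)) U.1

/-- the quotient scheme over the base -/
def quotObj : Over S :=
  haveI := isAffineHom_tensor i
  Over.mk (fromQuot G.hom (G ⊗ Red.DS S Λ).hom (fst G (Red.DS S Λ)).left (act i).left (Over.w (fst G (Red.DS S Λ)))
    (Over.w (act i)))

/-- the quotient map -/
def quotMap : G ⟶ quotObj i :=
  haveI := isAffineHom_tensor i
  Over.homMk (toQuot G.hom (G ⊗ Red.DS S Λ).hom (fst G (Red.DS S Λ)).left (act i).left (Over.w (fst G (Red.DS S Λ)))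
    (Over.w (act i))) (toQuot_fromQuot ..)

theorem isAffineHom_quotObj : IsAffineHom (quotObj i).hom := by
  haveI := isAffineHom_tensor i
  exact isAffineHom_fromQuot ..

/-- the charts of the quotient -/
def chart (U : S.affineOpens) : Spec (CommRingCat.of (eqS i U)) ⟶ (quotObj i).left :=
  haveI := isAffineHom_tensor i
  (quotCover G.hom (G ⊗ Red.DS S Λ).hom (fst G (Red.DS S Λ)).left (act i).left (Over.w (fst G (Red.DS S Λ)))
    (Over.w (act i))).f U

instance isOpenImmersion_chart (U : S.affineOpens) : IsOpenImmersion (chart i U) := by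
  haveI := isAffineHom_tensor i
  exact inferInstanceAs (IsOpenImmersion ((quotCover G.hom (G ⊗ Red.DS S Λ).hom (fst G (Red.DS S Λ)).left
    (act i).left (Over.w (fst G (Red.DS S Λ))) (Over.w (act i))).f U))

theorem fromSpec_quotMap (U : S.affineOpens) :
    (U.2.preimage G.hom).fromSpec ≫ (quotMap i).left =
      Spec.map (CommRingCat.ofHom (eqS i U).subtype) ≫ chart i U := by
  haveI := isAffineHom_tensor i
  have hV := U.2.preimage G.hom
  haveI : IsAffine (G.hom ⁻¹ᵁ U.1).toScheme := hV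
  haveI : IsIso (G.hom ⁻¹ᵁ U.1).toSpecΓ := by
    rw [← hV.isoSpec_hom]; infer_instance
  rw [← cancel_epi (G.hom ⁻¹ᵁ U.1).toSpecΓ, ← Category.assoc, hV.toSpecΓ_fromSpec]
  exact ι_toQuot (f := G.hom) (U := U) ..

theorem quotMap_w : fst G (Red.DS S Λ) ≫ quotMap i = act i ≫ quotMap i := by
  haveI := isAffineHom_tensor i
  let P := G ⊗ Red.DS S Λ
  refine Over.OverMorphism.ext ?_
  refine Scheme.Cover.hom_ext (P.left.openCoverOfIsOpenCover _
    (.comap (iSup_affineOpens_eq_top S) P.hom.base.1)) _ _ fun U => ?_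
  have hW : IsAffineOpen (P.hom ⁻¹ᵁ (U : S.affineOpens).1) := (U : S.affineOpens).2.preimage P.hom
  have hV := (U : S.affineOpens).2.preimage G.hom
  show (P.hom ⁻¹ᵁ (U : S.affineOpens).1).ι ≫ _ = (P.hom ⁻¹ᵁ (U : S.affineOpens).1).ι ≫ _
  rw [← hW.toSpecΓ_fromSpec, Category.assoc, Category.assoc, Over.comp_left, Over.comp_left,
    ← IsAffineOpen.SpecMap_appLE_fromSpec_assoc (fst G (Red.DS S Λ)).left hV hW
      (le_pre G.hom P.hom _ (Over.w (fst G (Red.DS S Λ))) _),
    ← IsAffineOpen.SpecMap_appLE_fromSpec_assoc (act i).left hV hW (le_pre G.hom P.hom _ (Over.w (act i)) _),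
    fromSpec_quotMap, ← Spec.map_comp_assoc, ← Spec.map_comp_assoc]
  congr 3
  exact CommRingCat.hom_ext (RingHom.ext fun b => b.2)

theorem isPullback_chart (U : S.affineOpens) :
    IsPullback (Spec.map (CommRingCat.ofHom (eqS i U).subtype)) (U.2.preimage G.hom).fromSpec (chart i U)
      (quotMap i).left := by
  haveI := isAffineHom_tensor i
  refine IsOpenImmersion.isPullback _ _ _ _ (fromSpec_quotMap i U) ?_
  rw [IsAffineOpen.opensRange_fromSpec]
  have h : (chart i U).opensRange = (quotObj i).hom ⁻¹ᵁ U.1 :=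
    (fromQuot_preimage G.hom (G ⊗ Red.DS S Λ).hom (fst G (Red.DS S Λ)).left (act i).left
      (Over.w (fst G (Red.DS S Λ))) (Over.w (act i)) U).symm
  rw [h, ← Scheme.Hom.comp_preimage, Over.w]

variable [AddMonoid.FG Λ]

theorem quotMap_props : Flat (quotMap i).left ∧ Surjective (quotMap i).left ∧
    LocallyOfFinitePresentation (quotMap i).left := by
  haveI := isAffineHom_tensor i
  let 𝒰 := quotCover G.hom (G ⊗ Red.DS S Λ).hom (fst G (Red.DS S Λ)).left (act i).left
    (Over.w (fst G (Red.DS S Λ))) (Over.w (act i))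
  have key : ∀ (P : MorphismProperty Scheme.{u}) [IsZariskiLocalAtTarget P],
      (∀ U : S.affineOpens, P (Spec.map (CommRingCat.ofHom (eqS i U).subtype))) → P (quotMap i).left := by
    intro P _ h
    refine (IsZariskiLocalAtTarget.iff_of_openCover (P := P) (𝒰 : (quotObj i).left.OpenCover)).2 fun U => ?_
    have hp := (isPullback_chart i U).flip
    exact (MorphismProperty.cancel_left_of_respectsIso P hp.isoPullback.hom _).1
      (by
        show P (hp.isoPullback.hom ≫ pullback.snd _ _)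
        rw [IsPullback.isoPullback_hom_snd]; exact h U)
  have hff : ∀ U : S.affineOpens, Module.FaithfullyFlat (eqS i U) Γ(G.left, G.hom ⁻¹ᵁ U.1) := fun U => by
    rw [eqS, eqSub_eq_inv i U]
    exact faithfullyFlat (isFreeCoaction i U)
  have hfp : ∀ U : S.affineOpens, Algebra.FinitePresentation (eqS i U) Γ(G.left, G.hom ⁻¹ᵁ U.1) := fun U => by
    rw [eqS, eqSub_eq_inv i U]
    exact finitePresentation (isFreeCoaction i U)
  refine ⟨key @Flat fun U => ?_, key @Surjective fun U => ?_, key @LocallyOfFinitePresentation fun U => ?_⟩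
  · haveI := hff U
    rw [HasRingHomProperty.Spec_iff (P := @Flat), CommRingCat.hom_ofHom]
    exact RingHom.flat_algebraMap_iff.2 inferInstance
  · haveI := hff U
    exact ⟨fun y => PrimeSpectrum.comap_surjective_of_faithfullyFlat (A := eqS i U)
      (B := Γ(G.left, G.hom ⁻¹ᵁ U.1)) y⟩
  · rw [HasRingHomProperty.Spec_iff (P := @LocallyOfFinitePresentation), CommRingCat.hom_ofHom]
    exact RingHom.finitePresentation_algebraMap.2 (hfp U)

theorem exists_translate_aff (U : S.affineOpens) {K : Type u} [CommRing K] (ϑ : Γ(S, U.1) →+* K)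
    (x y : aff U K ϑ ⟶ G) (h : ∀ b ∈ eqS i U, pK ϑ x b = pK ϑ y b) :
    ∃ z : aff U K ϑ ⟶ Red.DS S Λ, x * (z ≫ i) = y := by
  have hF := isFreeCoaction i U
  let I := inv (rho i U)
  letI : Algebra I K := ((pK ϑ x).comp I.subtype).toAlgebra
  let fx : Fn G U →ₐ[I] K := { pK ϑ x with commutes' := fun r => rfl }
  let fy : Fn G U →ₐ[I] K :=
    { pK ϑ y with commutes' := fun r => (h r.1 (by rw [eqS, eqSub_eq_inv i U]; exact r.2)).symm }
  let e := AlgEquiv.ofBijective (theta (rho i U)) (bijective_theta hF)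
  let L : TensorProduct I (Fn G U) (Fn G U) →ₐ[I] K := Algebra.TensorProduct.lift fx fy fun _ _ => Commute.all _ _
  let ψ : (Fn G U)[Λ] →+* K := L.toRingHom.comp e.symm.toRingHom
  have h0 : ∀ b, ψ (single 0 b) = pK ϑ x b := fun b => by
    have e1 : e.symm (single 0 b) = TensorProduct.tmul I b (1 : Fn G U) := by
      refine e.symm_apply_eq.2 ?_
      show _ = single (0 : Λ) b * rho i U 1
      rw [map_one, _root_.mul_one]
    show L (e.symm (single 0 b)) = _
    rw [e1]
    show fx b * fy 1 = _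
    rw [map_one, _root_.mul_one]
    rfl
  have h1 : ∀ b, ψ (rho i U b) = pK ϑ y b := fun b => by
    have e1 : e.symm (rho i U b) = TensorProduct.tmul I (1 : Fn G U) b := by
      refine e.symm_apply_eq.2 ?_
      show _ = single (0 : Λ) (1 : Fn G U) * rho i U b
      rw [← AddMonoidAlgebra.one_def, _root_.one_mul]
    show L (e.symm (rho i U b)) = _
    rw [e1]
    show fx 1 * fy b = _
    rw [map_one, _root_.one_mul]
    rfl
  let χ : Multiplicative Λ →* K := (ψ : (Fn G U)[Λ] →* K).comp (AddMonoidAlgebra.of (Fn G U) Λ)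
  refine ⟨ptK ϑ χ, pK_injective ϑ ?_⟩
  rw [pK_act, chK_ptK]
  have he : evalAt (pK ϑ x) χ = ψ := by
    refine RingHom.ext fun p => ?_
    induction p using AddMonoidAlgebra.induction_linear with
    | zero => rw [map_zero, map_zero]
    | add a b ha hb => rw [map_add, map_add, ha, hb]
    | single l b =>
      rw [evalAt_single, ← h0]
      show ψ (single 0 b) * ψ (single l 1) = _
      rw [← map_mul, single_mul_single, zero_add, _root_.mul_one]
  rw [he]
  exact RingHom.ext h1

theorem exists_translate {T : Over S} (x y : T ⟶ G) (h : x ≫ quotMap i = y ≫ quotMap i) :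
    ∃ z : T ⟶ Red.DS S Λ, x * (z ≫ i) = y := by
  haveI := isAffineHom_tensor i
  haveI : Mono i := Over.mono_of_mono_left i
  suffices ∃ z : T ⟶ Red.DS S Λ, z ≫ i = x⁻¹ * y from this.imp fun z hz => by rw [hz, mul_inv_cancel_left]
  refine SplitSub.exists_lift_of_local i _ fun t => ?_
  obtain ⟨_, ⟨U₀, hU₀, rfl⟩, hsU, -⟩ :=
    S.isBasis_affineOpens.exists_subset_of_mem_open (Set.mem_univ (T.hom t)) isOpen_univ
  let U : S.affineOpens := ⟨U₀, hU₀⟩
  obtain ⟨_, ⟨W, hW, rfl⟩, htW, hWU⟩ :=
    T.left.isBasis_affineOpens.exists_subset_of_mem_open (show t ∈ T.hom ⁻¹ᵁ U₀ from hsU) (T.hom ⁻¹ᵁ U₀).2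
  let ϑ : Γ(S, U.1) →+* Γ(T.left, W) := (T.hom.appLE U₀ W hWU).hom
  let w : aff U Γ(T.left, W) ϑ ⟶ T := Over.homMk hW.fromSpec (by
    show hW.fromSpec ≫ T.hom = Spec.map (CommRingCat.ofHom ϑ) ≫ hU₀.fromSpec
    rw [CommRingCat.ofHom_hom, IsAffineOpen.SpecMap_appLE_fromSpec])
  have hpt : ∀ v : aff U Γ(T.left, W) ϑ ⟶ G, v.left ≫ (quotMap i).left =
      Spec.map (CommRingCat.ofHom ((pK ϑ v).comp (eqS i U).subtype)) ≫ chart i U := fun v => by
    have hv : v.left = Spec.map (CommRingCat.ofHom (pK ϑ v)) ≫ (U.2.preimage G.hom).fromSpec := by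
      conv_lhs => rw [left_eq (U.2.preimage G.hom) (lies_aff ϑ) v]
      rw [← Category.assoc]
      congr 1
      show (Spec (CommRingCat.of Γ(T.left, W))).isoSpec.hom ≫ _ = _
      rw [Scheme.isoSpec_Spec_hom]
      exact (Spec.map_comp _ _).symm
    rw [hv]
    erw [Category.assoc, fromSpec_quotMap, ← Spec.map_comp_assoc]
    rfl
  obtain ⟨z, hz⟩ := exists_translate_aff i U ϑ (w ≫ x) (w ≫ y) fun b hb => by
    have hq : (w ≫ x).left ≫ (quotMap i).left = (w ≫ y).left ≫ (quotMap i).left := by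
      rw [← Over.comp_left, ← Over.comp_left, Category.assoc, Category.assoc, h]
    rw [hpt, hpt] at hq
    replace hq := (cancel_mono (chart i U)).1 hq
    exact congrArg (fun q : CommRingCat.of (eqS i U) ⟶ CommRingCat.of Γ(T.left, W) => q ⟨b, hb⟩)
      (Spec.map_injective hq)
  refine ⟨W, htW, Scheme.Opens.toSpecΓ W ≫ z.left, ?_⟩
  have hz' : z ≫ i = w ≫ (x⁻¹ * y) := by
    rw [MonObj.comp_mul, GrpObj.comp_inv, ← hz, inv_mul_cancel_left]
  refine (Category.assoc _ _ _).trans ?_
  have hl : z.left ≫ i.left = w.left ≫ (x⁻¹ * y).left := congrArg (fun f => f.left) hz'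
  refine (congrArg (Scheme.Opens.toSpecΓ W ≫ ·) hl).trans ?_
  show Scheme.Opens.toSpecΓ W ≫ hW.fromSpec ≫ _ = _
  rw [← Category.assoc, hW.toSpecΓ_fromSpec]

theorem isQuotient : RedSub.IsQuotient i (quotMap i) := by
  obtain ⟨h1, h2, h3⟩ := quotMap_props i
  refine ⟨h2, h1, h3, ?_⟩
  haveI : Mono i := Over.mono_of_mono_left i
  let r : G ⊗ Red.DS S Λ ⟶ G := (G ◁ i) ≫ μ[G]
  have hr : r = act i := by
    show _ = fst G (Red.DS S Λ) * (snd G (Red.DS S Λ) ≫ i)
    rw [Hom.mul_def]
    show (G ◁ i) ≫ μ[G] = lift (fst G (Red.DS S Λ)) (snd G (Red.DS S Λ) ≫ i) ≫ μ[G]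
    congr 1
  have hw : fst G (Red.DS S Λ) ≫ quotMap i = r ≫ quotMap i := by rw [hr]; exact quotMap_w i
  refine ⟨⟨hw⟩, ⟨PullbackCone.IsLimit.mk hw
    (fun c => lift c.fst (exists_translate i c.fst c.snd c.condition).choose) (fun c => lift_fst _ _) (fun c => ?_)
    (fun c m h1 h2 => ?_)⟩⟩
  · show lift c.fst _ ≫ r = c.snd
    rw [hr, MonObj.comp_mul, lift_fst, lift_snd_assoc]
    exact (exists_translate i c.fst c.snd c.condition).choose_spec
  · refine CartesianMonoidalCategory.hom_ext _ _ (by rw [lift_fst]; exact h1) ?_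
    have hs := (exists_translate i c.fst c.snd c.condition).choose_spec
    rw [lift_snd, ← cancel_mono i]
    refine mul_left_cancel (a := c.fst) ?_
    rw [hs, ← h2]
    show _ = m ≫ r
    rw [hr, MonObj.comp_mul, h1, Category.assoc]

/-- **the quotient by a closed normal diagonalisable subgroup** -/
theorem exists_quotient (hn : AlgGrp.IsNormalHom i) :
    ∃ (Q : Over S) (_ : GrpObj Q) (q : G ⟶ Q), IsMonHom q ∧ RedSub.IsQuotient i q ∧ IsAffineHom Q.hom := by
  haveI : Mono i := Over.mono_of_mono_left i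
  obtain ⟨gQ, hq, -⟩ := Groth.Agent.S5236.result i hn (quotMap i) (isQuotient i)
  exact ⟨quotObj i, gQ, quotMap i, hq, isQuotient i, isAffineHom_quotObj i⟩

end Groth.L14.CentQuot
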