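import Groth.Agent.L14.CentQuot.Quotient
import Groth.Agent.L15.AdjCentre.Split
import Groth.Agent.L14.DerGrp.Field
import Groth.Agent.L14.TypeR.AsymSolv
import Groth.Agent.L25.SplitSub.Map
import Groth.Agent.L25.Actions
import Groth.Agent.L25.TorusTorsion

/-!
# A split group and the central subgroup attached to a lattice containing the roots
-/

set_option autoImplicit false
set_option backward.isDefEq.respectTransparency.types false
set_option linter.style.haveILetI false
set_option linter.unusedSectionVars false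
set_option maxHeartbeats 1000000

universe u

open CategoryTheory CategoryTheory.Limits MonoidalCategory CartesianMonoidalCategory MonObj AlgebraicGeometry
open Groth.L25

noncomputable section

namespace Groth.L14.CentQuot

variable {S : Scheme.{u}} {G : Over S} [GrpObj G] (D : Red.SplitRed G) (N : AddSubgroup D.M)

/-- the central subgroup attached to `N` -/
abbrev iN : Red.DS S (D.M ⧸ N) ⟶ G := Red.DSmap S (QuotientAddGroup.mk' N) ≫ D.split.inv.hom.hom ≫ D.i

instance isMonHom_iN : IsMonHom (iN D N) := by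
  haveI := D.maximalTorus.1
  haveI : IsMonHom D.split.inv.hom.hom := D.split.inv.hom.isMonHom_hom
  infer_instance

theorem isClosedImmersion_DSmap {M N' : Type} [AddCommGroup M] [AddCommGroup N'] (φ : M →+ N')
    (hφ : Function.Surjective φ) : IsClosedImmersion (Red.DSmap S φ).left := by
  refine MorphismProperty.overPullbackMap (P := @IsClosedImmersion) _ (Red.diagMap (ULift.{u} ℤ) φ) ?_
  refine IsClosedImmersion.spec_of_surjective _ ?_
  intro y
  induction y using MonoidAlgebra.induction_linear with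
  | zero => exact ⟨0, map_zero _⟩
  | add a b ha hb =>
    obtain ⟨a', rfl⟩ := ha
    obtain ⟨b', rfl⟩ := hb
    exact ⟨a' + b', map_add _ _ _⟩
  | single m r =>
    obtain ⟨m', hm'⟩ := hφ (Multiplicative.toAdd m)
    refine ⟨MonoidAlgebra.single (Multiplicative.ofAdd m') r, ?_⟩
    show MonoidAlgebra.mapDomain (AddMonoidHom.toMultiplicative φ) _ = _
    rw [MonoidAlgebra.mapDomain_single]
    show MonoidAlgebra.single (Multiplicative.ofAdd (φ m')) r = _
    rw [hm']
    rfl

instance isIso_split_inv : IsIso D.split.inv.hom.hom :=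
  ⟨D.split.hom.hom.hom, congrArg (fun f => f.hom.hom) D.split.inv_hom_id,
    congrArg (fun f => f.hom.hom) D.split.hom_inv_id⟩

instance isIso_split_hom : IsIso D.split.hom.hom.hom :=
  ⟨D.split.inv.hom.hom, congrArg (fun f => f.hom.hom) D.split.hom_inv_id,
    congrArg (fun f => f.hom.hom) D.split.inv_hom_id⟩

theorem inv_hom' : D.split.inv.hom.hom ≫ D.split.hom.hom.hom = 𝟙 _ :=
  congrArg (fun f => f.hom.hom) D.split.inv_hom_id

instance isClosedImmersion_iN : IsClosedImmersion (iN D N).left := by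
  haveI := Groth.L14.TypeR.isClosedImmersion_i D
  haveI := isClosedImmersion_DSmap (S := S) (QuotientAddGroup.mk' N) (QuotientAddGroup.mk'_surjective N)
  haveI : IsIso D.split.inv.hom.hom.left := inferInstanceAs (IsIso ((Over.forget S).map D.split.inv.hom.hom))
  rw [iN, Over.comp_left, Over.comp_left]
  infer_instance

instance mono_iN : Mono (iN D N) := Over.mono_of_mono_left _

variable (hN : ∀ a : D.idx, D.P.root a ∈ N)

include hN in
/-- the subgroup is central -/
theorem iN_central {X : Over S} (z : X ⟶ Red.DS S (D.M ⧸ N)) (g : X ⟶ G) :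
    (z ≫ iN D N) * g = g * (z ≫ iN D N) := by
  have h := Groth.L15.AdjCentre.commute_of_char D
    (z ≫ Red.DSmap S (QuotientAddGroup.mk' N) ≫ D.split.inv.hom.hom) (fun a => by
    rw [Category.assoc, Category.assoc, inv_hom', Category.comp_id, SplitSub.char_DSmap]
    show DSPts.char z (Multiplicative.ofAdd (QuotientAddGroup.mk' N (D.P.root a))) = 1
    rw [show QuotientAddGroup.mk' N (D.P.root a) = 0 from (QuotientAddGroup.eq_zero_iff _).2 (hN a)]
    exact map_one (DSPts.char z)) g
  simpa only [iN, Category.assoc] using h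

include hN in
theorem iN_normal : AlgGrp.IsNormalHom (iN D N) := fun X g z =>
  ⟨z, by rw [← iN_central D N hN z g, mul_inv_cancel_right]⟩

/-- the map of the torus onto the new torus -/
def tau : D.T ⟶ Red.DS S ↥N := D.split.hom.hom.hom ≫ Red.DSmap S N.subtype

instance isMonHom_tau : IsMonHom (tau D N) := by
  haveI : IsMonHom D.split.hom.hom.hom := D.split.hom.hom.isMonHom_hom
  unfold tau
  infer_instance

theorem tau_props : Flat (tau D N).left ∧ Surjective (tau D N).left ∧ IsAffineHom (tau D N).left := by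
  obtain ⟨h1, h2, h3⟩ := SplitSub.DSmap_cover (S := S) N.subtype N.subtype_injective
  haveI := h1; haveI := h2; haveI := h3
  haveI : IsIso D.split.hom.hom.hom.left := inferInstanceAs (IsIso ((Over.forget S).map D.split.hom.hom.hom))
  rw [tau, Over.comp_left]
  exact ⟨inferInstance, inferInstance, inferInstance⟩

/-- points of the new torus lift after a cover -/
theorem exists_cover_lift {X : Over S} (x : X ⟶ Red.DS S ↥N) :
    ∃ (X' : Over S) (c : X' ⟶ X) (_ : Epi c) (t : X' ⟶ D.T), t ≫ tau D N = c ≫ x := by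
  obtain ⟨h1, h2, h3⟩ := tau_props D N
  have sq := (IsPullback.of_hasPullback x (tau D N)).map (Over.forget S)
  refine ⟨pullback x (tau D N), pullback.fst _ _, ?_, pullback.snd _ _, pullback.condition.symm⟩
  haveI : Flat (pullback.fst x (tau D N)).left := MorphismProperty.of_isPullback sq.flip h1
  haveI : Surjective (pullback.fst x (tau D N)).left := MorphismProperty.of_isPullback sq.flip h2
  haveI : IsAffineHom (pullback.fst x (tau D N)).left := MorphismProperty.of_isPullback sq.flip h3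
  haveI : Epi (pullback.fst x (tau D N)).left := inferInstance
  exact Over.epi_of_epi_left _

theorem tau_ker {X : Over S} (t : X ⟶ D.T) (h : t ≫ tau D N = 1) :
    ∃ z : X ⟶ Red.DS S (D.M ⧸ N), z ≫ iN D N = t ≫ D.i := by
  obtain ⟨z, hz⟩ := Groth.L14.DerGrp.exists_fac_quot N (t ≫ D.split.hom.hom.hom) (by rw [Category.assoc]; exact h)
  refine ⟨z, ?_⟩
  rw [iN, ← Category.assoc z, hz]
  simp only [Category.assoc]
  rw [← Category.assoc D.split.hom.hom.hom, show D.split.hom.hom.hom ≫ D.split.inv.hom.hom = 𝟙 _ from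
    congrArg (fun f => f.hom.hom) D.split.hom_inv_id, Category.id_comp]

theorem inv_mul_tau {X : Over S} (a b : X ⟶ D.T) :
    (a⁻¹ * b) ≫ tau D N = (a ≫ tau D N)⁻¹ * (b ≫ tau D N) := by
  haveI := isMonHom_tau D N
  let Φ : (X ⟶ D.T) →* (X ⟶ Red.DS S ↥N) := MonoidHom.mk' (fun p => p ≫ tau D N) fun p r => MonObj.mul_comp p r _
  exact (map_mul Φ a⁻¹ b).trans (congrArg (· * Φ b) (map_inv Φ a))

theorem iN_tau {X : Over S} (z : X ⟶ Red.DS S (D.M ⧸ N)) :
    (z ≫ Red.DSmap S (QuotientAddGroup.mk' N) ≫ D.split.inv.hom.hom) ≫ tau D N = 1 := by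
  refine DSPts.char_injective (MonoidHom.ext fun m => ?_)
  simp only [tau, Category.assoc]
  rw [← Category.assoc D.split.inv.hom.hom, inv_hom', Category.id_comp, ← Category.assoc z, SplitSub.char_DSmap,
    SplitSub.char_DSmap, DSPts.char_one]
  show DSPts.char z (Multiplicative.ofAdd (QuotientAddGroup.mk' N (N.subtype m.toAdd))) = 1
  rw [show QuotientAddGroup.mk' N (N.subtype m.toAdd) = 0 from (QuotientAddGroup.eq_zero_iff _).2 m.toAdd.2]
  exact map_one (DSPts.char z)

variable {Q : Over S} [GrpObj Q] (q : G ⟶ Q) [IsMonHom q] (hq : RedSub.IsQuotient (iN D N) q)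

section Kernel

variable {Λ : Type} [AddCommGroup Λ] {H : Over S} [GrpObj H] {i : H ⟶ G} (hi : RedSub.IsQuotient i q)

include hi in
theorem kills {X : Over S} (z : X ⟶ H) : z ≫ i ≫ q = 1 := by
  have h := lift (1 : X ⟶ G) z ≫= hi.2.2.2.w
  rw [lift_fst_assoc, MonObj.one_comp, ← Category.assoc, lift_whiskerLeft_assoc,
    show lift (1 : X ⟶ G) (z ≫ i) ≫ μ[G] = 1 * (z ≫ i) from rfl, _root_.one_mul, Category.assoc] at h
  exact h.symm

include hi in
theorem eq_translate {X : Over S} (x y : X ⟶ G) (h : x ≫ q = y ≫ q) : ∃ z : X ⟶ H, x * (z ≫ i) = y := by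
  refine ⟨hi.2.2.2.lift x y h ≫ snd G H, ?_⟩
  have h1 := hi.2.2.2.lift_fst x y h
  have h2 := hi.2.2.2.lift_snd x y h
  have h3 : hi.2.2.2.lift x y h ≫ (fst G H * (snd G H ≫ i)) = y := by
    refine Eq.trans ?_ h2
    congr 1
  rw [MonObj.comp_mul, h1, ← Category.assoc] at h3
  exact h3

include hi in
theorem exists_of_comp_eq_one {X : Over S} (x : X ⟶ G) (h : x ≫ q = 1) : ∃ z : X ⟶ H, z ≫ i = x := by
  obtain ⟨z, hz⟩ := eq_translate q hi 1 x (by rw [MonObj.one_comp, h])
  exact ⟨z, by rwa [_root_.one_mul] at hz⟩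

end Kernel

include hq in
theorem tau_eq {X : Over S} (a b : X ⟶ D.T) (h : a ≫ tau D N = b ≫ tau D N) : a ≫ D.i ≫ q = b ≫ D.i ≫ q := by
  haveI := D.maximalTorus.1
  obtain ⟨z, hz⟩ := tau_ker D N (a⁻¹ * b) (by rw [inv_mul_tau, h, inv_mul_cancel])
  have hz' := congrArg (· ≫ q) hz
  rw [Category.assoc, kills q hq z, Category.assoc] at hz'
  have h2 : (a⁻¹ * b) ≫ (D.i ≫ q) = (a ≫ D.i ≫ q)⁻¹ * (b ≫ D.i ≫ q) := by
    rw [MonObj.mul_comp, GrpObj.inv_comp]
  rw [h2] at hz'
  exact inv_mul_eq_one.1 hz'.symm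

include hq in
/-- the new torus in the quotient -/
theorem exists_iT : ∃ j : Red.DS S ↥N ⟶ Q, IsMonHom j ∧ Mono j ∧ tau D N ≫ j = D.i ≫ q := by
  haveI := D.maximalTorus.1
  haveI := D.maximalTorus.2.1
  obtain ⟨h1, h2, h3⟩ := tau_props D N
  haveI := isMonHom_tau D N
  haveI : EffectiveEpi (tau D N).left := inferInstance
  obtain ⟨j, hj, -⟩ := Actions.existsUnique_desc (tau D N) (D.i ≫ q) fun Z a b h => tau_eq D N q hq a b h
  haveI hm : IsMonHom j := Groth.L25.Bridge.isMonHom_of_mul j fun Y a b => by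
    obtain ⟨Y₁, c₁, hc₁, ta, hta⟩ := exists_cover_lift D N a
    obtain ⟨Y₂, c₂, hc₂, tb, htb⟩ := exists_cover_lift D N (c₁ ≫ b)
    haveI := hc₁; haveI := hc₂
    haveI : Epi (c₂ ≫ c₁) := epi_comp _ _
    have ea : (c₂ ≫ c₁) ≫ a = (c₂ ≫ ta) ≫ tau D N := by rw [Category.assoc, Category.assoc, hta]
    have eb : (c₂ ≫ c₁) ≫ b = tb ≫ tau D N := by rw [Category.assoc, htb]
    have e : ((c₂ ≫ ta) ≫ tau D N) * (tb ≫ tau D N) = ((c₂ ≫ ta) * tb) ≫ tau D N :=
      (MonObj.mul_comp (c₂ ≫ ta) tb (tau D N)).symm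
    have key : ∀ w : Y₂ ⟶ D.T, (w ≫ tau D N) ≫ j = w ≫ (D.i ≫ q) := fun w =>
      (Category.assoc _ _ _).trans (congrArg (w ≫ ·) hj)
    refine (cancel_epi (c₂ ≫ c₁)).1 ?_
    refine (Category.assoc _ _ _).symm.trans ?_
    refine (congrArg (· ≫ j) ((MonObj.comp_mul (c₂ ≫ c₁) a b).trans ((congrArg₂ (· * ·) ea eb).trans e))).trans ?_
    refine (key _).trans ((MonObj.mul_comp _ _ _).trans ?_)
    refine Eq.trans ?_ (MonObj.comp_mul (c₂ ≫ c₁) (a ≫ j) (b ≫ j)).symm
    refine congrArg₂ (· * ·) ?_ ?_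
    · exact (key _).symm.trans ((congrArg (· ≫ j) ea.symm).trans (Category.assoc _ _ _))
    · exact (key _).symm.trans ((congrArg (· ≫ j) eb.symm).trans (Category.assoc _ _ _))
  refine ⟨j, hm, ⟨fun {X} a b h => ?_⟩, hj⟩
  have key : ∀ {X : Over S} (x : X ⟶ Red.DS S ↥N), x ≫ j = 1 → x = 1 := fun {X} x hx => by
    obtain ⟨X', c, hc, t, ht⟩ := exists_cover_lift D N x
    haveI := hc
    rw [← cancel_epi c, MonObj.comp_one, ← ht]
    have h1 : (t ≫ D.i) ≫ q = 1 := by
      rw [Category.assoc, ← hj, ← Category.assoc, ht, Category.assoc, hx, MonObj.comp_one]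
    obtain ⟨z, hz⟩ := exists_of_comp_eq_one q hq _ h1
    rw [iN, ← Category.assoc, ← Category.assoc] at hz
    rw [← (cancel_mono D.i).1 hz, Category.assoc z]
    exact iN_tau D N z
  exact inv_mul_eq_one.1 (key (a⁻¹ * b) (by rw [MonObj.mul_comp, GrpObj.inv_comp, h, inv_mul_cancel]))

end Groth.L14.CentQuot
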