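import Groth.Prelude.Def_Red2
import Mathlib.LinearAlgebra.FreeModule.PID
import Mathlib.LinearAlgebra.RootSystem.Finite.Nondegenerate

/-!
# The root datum on a lattice containing the roots
-/

set_option autoImplicit false
set_option linter.unusedSectionVars false
set_option linter.style.haveILetI false
set_option backward.isDefEq.respectTransparency.types false

noncomputable section

namespace Groth.L14.CentQuot

variable {ι M : Type} [AddCommGroup M] [Module.Finite ℤ M] [Module.Free ℤ M] [Fintype ι]
  (P : RootPairing ι ℤ M (Module.Dual ℤ M)) (hev : P.toLinearMap = Module.Dual.eval ℤ M)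
  (N : AddSubgroup M) (hN : ∀ a : ι, P.root a ∈ N)

theorem finite_sub : Module.Finite ℤ ↥N :=
  Module.Finite.iff_addGroup_fg.2 (Module.Finite.iff_addGroup_fg.1
    (inferInstance : Module.Finite ℤ (AddSubgroup.toIntSubmodule N)))

theorem free_sub : Module.Free ℤ ↥N :=
  Module.Free.of_equiv (LinearEquiv.refl ℤ (AddSubgroup.toIntSubmodule N) : _ ≃ₗ[ℤ] ↥N)

/-- the coroot restricted to the lattice -/
def corootN (a : ι) : Module.Dual ℤ ↥N := ((P.coroot a).toAddMonoidHom.comp N.subtype).toIntLinearMap

theorem corootN_apply (a : ι) (x : ↥N) : corootN P N a x = P.coroot a x := rfl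

include hev in
theorem coroot_root (a b : ι) : P.coroot b (P.root a) = P.pairing a b := by
  show _ = P.toLinearMap (P.root a) (P.coroot b)
  rw [hev]
  rfl

include hev in
/-- roots whose coroots agree on all roots are equal -/
theorem eq_of_coroot_eq {a b : ι} (h : ∀ c, P.coroot a (P.root c) = P.coroot b (P.root c)) : a = b := by
  have hev' : ∀ c d : ι, P.coroot d (P.root c) = P.pairing c d := fun c d => coroot_root P hev c d
  have step : ∀ x : ι, P.root (P.reflectionPerm a (P.reflectionPerm b x)) =
      P.root x + P.pairing x b • (P.root a - P.root b) := fun x => by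
    have h1 : P.pairing (P.reflectionPerm b x) a = - P.pairing x b := by
      rw [← hev', h, hev', ← P.pairing_reflectionPerm, P.pairing_reflectionPerm_self_right]
    rw [← P.reflectionPerm_root a, ← P.reflectionPerm_root b x]
    show (P.root x - P.toLinearMap (P.root x) (P.coroot b) • P.root b) - _ = _
    have h2 : P.toLinearMap (P.root x) (P.coroot b) = P.pairing x b := rfl
    have h3 : P.toLinearMap (P.root x - P.pairing x b • P.root b) (P.coroot a) = - P.pairing x b := by
      rw [← h1, show P.pairing (P.reflectionPerm b x) a = P.toLinearMap (P.root (P.reflectionPerm b x)) (P.coroot a) from rfl,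
        ← P.reflectionPerm_root b x, h2]
    rw [h2, h3, neg_smul, sub_neg_eq_add, smul_sub]
    abel
  have h0 : P.pairing b b = 2 := P.pairing_same b
  have hba : P.pairing a b = 2 := by rw [← hev', ← h, hev', P.pairing_same]
  let f : ℕ → ι := fun n => (fun x => P.reflectionPerm a (P.reflectionPerm b x))^[n] b
  have hf : ∀ n : ℕ, P.root (f n) = P.root b + (2 * n : ℤ) • (P.root a - P.root b) := by
    intro n
    induction n with
    | zero => simp [f]
    | succ n ih =>
      have hs : f (n + 1) = P.reflectionPerm a (P.reflectionPerm b (f n)) := Function.iterate_succ_apply' _ _ _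
      have hp : P.pairing (f n) b = 2 := by
        rw [← hev', ih, map_add, map_zsmul, map_sub, hev', hev', h0, hba]
        simp
      rw [hs, step, hp, ih, add_assoc, ← add_smul]
      congr 2
  by_contra hne
  obtain ⟨m, n, hmn, e⟩ := Finite.exists_ne_map_eq_of_infinite f
  have e' := congrArg P.root e
  rw [hf, hf, add_left_cancel_iff, ← sub_eq_zero, ← sub_smul, smul_eq_zero] at e'
  rcases e' with e' | e'
  · omega
  · exact hne (P.root.injective (sub_eq_zero.1 e'))

include hev hN in
theorem corootN_injective : Function.Injective (corootN P N) := fun a b h =>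
  eq_of_coroot_eq P hev fun c => LinearMap.congr_fun h ⟨P.root c, hN c⟩

/-- the root datum on the lattice -/
def subPairing : RootPairing ι ℤ ↥N (Module.Dual ℤ ↥N) :=
  letI := free_sub N
  letI := finite_sub N
  { toLinearMap := Module.Dual.eval ℤ ↥N
    root := ⟨fun a => ⟨P.root a, hN a⟩, fun a b h => P.root.injective (congrArg Subtype.val h)⟩
    coroot := ⟨corootN P N, corootN_injective P hev N hN⟩
    root_coroot_two := fun a => by
      show P.coroot a (P.root a) = 2
      rw [coroot_root P hev]
      exact P.pairing_same a
    reflectionPerm := P.reflectionPerm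
    reflectionPerm_root := fun a b => by
      refine Subtype.ext ?_
      show P.root b - P.coroot a (P.root b) • P.root a = P.root (P.reflectionPerm a b)
      rw [coroot_root P hev, ← P.reflectionPerm_root a b]
      rfl
    reflectionPerm_coroot := fun a b => by
      refine LinearMap.ext fun x => ?_
      show P.coroot b x - P.coroot b (P.root a) * P.coroot a x = P.coroot (P.reflectionPerm a b) x
      have := P.reflectionPerm_coroot a b
      rw [← this, coroot_root P hev]
      rfl }

theorem subPairing_root (a : ι) : ((subPairing P hev N hN).root a : M) = P.root a := rfl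

theorem subPairing_reflection (a : ι) (x : ↥N) :
    ((subPairing P hev N hN).reflection a x : M) = P.reflection a (x : M) := by
  rw [RootPairing.reflection_apply, RootPairing.reflection_apply]
  show (x : M) - P.coroot a (x : M) • P.root a = _
  congr 1
  show _ = P.toLinearMap (x : M) (P.coroot a) • _
  rw [hev]
  rfl

end Groth.L14.CentQuot
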