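import Groth.Agent.L14.CentQuot.SplitBase
import Groth.Agent.L14.CentQuot.SplitDatum
import Groth.Agent.L14.BorelLoc.SplitBC
import Groth.Agent.L14.DerGrp.Torus
import Groth.Agent.L08.Borel.CentBorel
import Groth.Agent.L25.RedField.Unipotent
import Groth.Agent.L23.FppfSmooth
import Groth.Agent.L15.KerDim.Basic
import Groth.Agent.S3927

/-!
# Fibres of the quotient by a central subgroup
-/

set_option autoImplicit false
set_option backward.isDefEq.respectTransparency.types false
set_option linter.style.haveILetI false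
set_option linter.unusedSectionVars false
set_option maxHeartbeats 1000000

universe u

open CategoryTheory CategoryTheory.Limits MonoidalCategory CartesianMonoidalCategory MonObj AlgebraicGeometry
open Groth.L25

noncomputable section

namespace Groth.L14.CentQuot

variable {S : Scheme.{u}} {G : Over S} [GrpObj G] (D : Red.SplitRed G) (N : AddSubgroup D.M)
  {Q : Over S} [GrpObj Q] (q : G ⟶ Q) [IsMonHom q] (hq : RedSub.IsQuotient (iN D N) q)

theorem isTorus_DSN : Red.IsTorus (Red.DS S ↥N) := by
  haveI : Module.Finite ℤ ↥N := Module.Finite.iff_addGroup_fg.2 (Module.Finite.iff_addGroup_fg.1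
    (inferInstance : Module.Finite ℤ (AddSubgroup.toIntSubmodule N)))
  haveI : Module.Free ℤ ↥N := Module.Free.of_equiv (LinearEquiv.refl ℤ (AddSubgroup.toIntSubmodule N) :
    _ ≃ₗ[ℤ] ↥N)
  exact TorLift.isTorus_of_iso (TorLift.dsCongr S
    (Module.finBasis ℤ ↥N).equivFun.toAddEquiv).symm (Groth.L08.Borel.isTorus_ds _ _)

theorem cancel_dim {a b c : ℕ} {d e : WithBot ℕ∞} (h1 : ((b + c : ℕ) : WithBot ℕ∞) = d + e)
    (h2 : (b : WithBot ℕ∞) = (a : WithBot ℕ∞) + e) : d = ((a + c : ℕ) : WithBot ℕ∞) := by
  induction e using WithBot.recBotCoe with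
  | bot => simp at h2
  | coe e =>
    induction d using WithBot.recBotCoe with
    | bot => simp at h1
    | coe d =>
      change (((b + c : ℕ) : ℕ∞) : WithBot ℕ∞) = ((d + e : ℕ∞) : WithBot ℕ∞) at h1
      change ((b : ℕ∞) : WithBot ℕ∞) = (((a : ℕ∞) + e : ℕ∞) : WithBot ℕ∞) at h2
      replace h1 : ((b + c : ℕ) : ℕ∞) = d + e := WithBot.coe_inj.1 h1
      replace h2 : (b : ℕ∞) = (a : ℕ∞) + e := WithBot.coe_inj.1 h2
      induction e using ENat.recTopCoe with
      | top => simp at h2
      | coe e =>
        induction d using ENat.recTopCoe with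
        | top => simp at h1
        | coe d =>
          norm_cast at h1 h2
          show ((d : ℕ∞) : WithBot ℕ∞) = (((a + c : ℕ) : ℕ∞) : WithBot ℕ∞)
          rw [show d = a + c by omega]

section Quot

variable (hQ : IsAffineHom Q.hom)

include D hq in
theorem smooth_quot : Smooth Q.hom := by
  haveI := hq.1; haveI := hq.2.1; haveI := hq.2.2.1
  exact Groth.L23.FppfSmooth.smooth_of_fppf_comp q.left Q.hom (by rw [Over.w]; exact D.reductive.2.1)

include D hq hQ in
theorem connectedSpace_fibre (s : S) : ConnectedSpace (Red.geomFibre s Q).left := by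
  haveI := (D.reductive.2.2 s).2.2.1
  haveI : Surjective ((Over.pullback (Red.geomPt s)).map q).left :=
    MorphismProperty.overPullbackMap (P := @Surjective) _ q hq.1
  exact Function.Surjective.connectedSpace ((Over.pullback (Red.geomPt s)).map q).left.surjective
    ((Over.pullback (Red.geomPt s)).map q).left.continuous

include D hq hQ in
/-- the quotient is reductive -/
theorem isReductive_quot : Red.IsReductive Q := by
  have hsm := smooth_quot D N q hq
  refine ⟨hQ, hsm, fun s => ?_⟩
  haveI := hQ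
  let qs := (Over.pullback (Red.geomPt s)).map q
  haveI : IsMonHom qs := Groth.L25.MonoClosed.isMonHom_pullbackMap _ _
  haveI : Surjective qs.left := MorphismProperty.overPullbackMap (P := @Surjective) _ q hq.1
  haveI : IsAffineHom (Red.geomFibre s Q).hom := MorphismProperty.pullback_snd _ _ hQ
  haveI : IsAffine (Red.geomFibre s Q).left := isAffine_of_isAffineHom (Red.geomFibre s Q).hom
  haveI : Smooth (Red.geomFibre s Q).hom := MorphismProperty.pullback_snd _ _ hsm
  haveI := connectedSpace_fibre D N q hq hQ s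
  exact Groth.L25.RedField.isReductiveOver_of_surjective (D.reductive.2.2 s) qs

variable (j : Red.DS S ↥N ⟶ Q) [IsMonHom j] [Mono j] (hj : tau D N ≫ j = D.i ≫ q)

include D hq hQ in
theorem isClosedImmersion_jQ : IsClosedImmersion j.left := by
  haveI := hQ
  exact Locus.isClosedImmersion_of_mono
    (Locus.locally_of_multTypeFT (Locus.isMultTypeFT_of_isTorus (isTorus_DSN D N))) j

include D hq hQ hj in
/-- the new torus is maximal -/
theorem isMaximalTorus_quot : Red.IsMaximalTorus j := by
  have hcl := isClosedImmersion_jQ D N q hq hQ j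
  have hsm := smooth_quot D N q hq
  refine ⟨inferInstance, inferInstance, isTorus_DSN D N, fun s T' _ a _ _ f hT' hf => ?_⟩
  haveI := hQ
  haveI := D.maximalTorus.1; haveI := D.maximalTorus.2.1
  haveI := D.reductive.1; haveI := D.reductive.2.1
  let p := Red.geomPt s
  haveI := Groth.L14.Chev.Cell.isMonHom_bcMap p q
  haveI := Groth.L14.Chev.Cell.isMonHom_bcMap p D.i
  haveI := Groth.L14.Chev.Cell.isMonHom_bcMap p j
  haveI : Surjective ((Over.pullback p).map q).left := MorphismProperty.overPullbackMap (P := @Surjective) _ q hq.1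
  haveI : Surjective ((Over.pullback p).map (tau D N)).left :=
    MorphismProperty.overPullbackMap (P := @Surjective) _ _ (tau_props D N).2.1
  haveI : IsAffineHom (Red.geomFibre s Q).hom := MorphismProperty.pullback_snd _ _ hQ
  haveI : IsAffine (Red.geomFibre s Q).left := isAffine_of_isAffineHom (Red.geomFibre s Q).hom
  haveI : Smooth (Red.geomFibre s Q).hom := MorphismProperty.pullback_snd _ _ hsm
  haveI := connectedSpace_fibre D N q hq hQ s
  haveI := (D.reductive.2.2 s).1; haveI := (D.reductive.2.2 s).2.1; haveI := (D.reductive.2.2 s).2.2.1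
  haveI := finite_sub N
  haveI := free_sub N
  haveI : Smooth (Red.bc p (Red.DS S ↥N)).hom :=
    MorphismProperty.pullback_snd _ _ (Groth.L14.Chev.Cell.affSmooth_DS S ↥N).2
  haveI : IsReduced (Red.bc p (Red.DS S ↥N)).left :=
    Groth.L25.GenWords.isReduced_of_smooth_field (Red.bc p (Red.DS S ↥N)).hom
  have hT : AGF.IsMaxTorus ((Over.pullback p).map D.i) :=
    ⟨inferInstance, inferInstance, Groth.L25.Locus.isTorus_bc D.maximalTorus.2.2.1 p,
      fun T'' _ a' _ _ f' hT'' hf' => D.maximalTorus.2.2.2 s T'' a' f' hT'' hf'⟩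
  exact (Groth.Agent.S3927.result _ (Red.geomFibre s G) (Red.geomFibre s Q) ((Over.pullback p).map q)
    (Red.bc p D.T) _ hT (Red.bc p (Red.DS S ↥N)) ((Over.pullback p).map j)
    (MorphismProperty.overPullbackMap (P := @IsClosedImmersion) _ _ hcl) ((Over.pullback p).map (tau D N))
    (by rw [← Functor.map_comp, ← Functor.map_comp, hj])).2.2.2 T' a f hT' hf

include D hq hQ hj in
/-- dimension of the fibres -/
theorem dim_quot (s : S) : topologicalKrullDim ↥(Red.geomFibre s Q).left =
    ((Module.finrank ℤ ↥N + Fintype.card D.idx : ℕ) : WithBot ℕ∞) := by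
  haveI := D.maximalTorus.1; haveI := D.maximalTorus.2.1
  haveI := D.reductive.1; haveI := D.reductive.2.1
  haveI := smooth_quot D N q hq
  haveI := Groth.L14.TypeR.isClosedImmersion_i D
  have hjc := isClosedImmersion_jQ D N q hq hQ j
  haveI := isMonHom_tau D N
  let p := Red.geomPt s
  let K := AlgebraicClosure (S.residueField s)
  let Fp := Over.pullback p
  haveI := Groth.L14.Chev.Cell.isMonHom_bcMap p q
  haveI := Groth.L14.Chev.Cell.isMonHom_bcMap p (tau D N)
  haveI := Groth.L14.Chev.Cell.isMonHom_bcMap p D.i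
  haveI := Groth.L14.Chev.Cell.isMonHom_bcMap p j
  haveI := Groth.L14.Chev.Cell.isMonHom_bcMap p (iN D N)
  haveI : Flat (Fp.map q).left := MorphismProperty.overPullbackMap (P := @Flat) _ q hq.2.1
  haveI : Flat (Fp.map (tau D N)).left := MorphismProperty.overPullbackMap (P := @Flat) _ _ (tau_props D N).1
  haveI : IsClosedImmersion (Fp.map D.i).left := MorphismProperty.overPullbackMap (P := @IsClosedImmersion) _ _ inferInstance
  haveI : IsClosedImmersion (Fp.map j).left := MorphismProperty.overPullbackMap (P := @IsClosedImmersion) _ _ hjc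
  haveI := finite_sub N
  haveI := free_sub N
  haveI := (Groth.L14.Chev.Cell.affSmooth_DS S D.M).2
  haveI : IsIso D.split.hom.hom.hom.left := inferInstanceAs (IsIso ((Over.forget S).map D.split.hom.hom.hom))
  haveI : Smooth D.T.hom := by rw [← Over.w D.split.hom.hom.hom]; infer_instance
  haveI : Smooth (Red.DS S ↥N).hom := (Groth.L14.Chev.Cell.affSmooth_DS S ↥N).2
  haveI : LocallyOfFiniteType (Red.bc p G).hom := MorphismProperty.pullback_snd _ _ inferInstance
  haveI : LocallyOfFiniteType (Red.bc p Q).hom := MorphismProperty.pullback_snd _ _ inferInstance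
  haveI : LocallyOfFiniteType (Red.bc p D.T).hom := MorphismProperty.pullback_snd _ _ inferInstance
  haveI : LocallyOfFiniteType (Red.bc p (Red.DS S ↥N)).hom := MorphismProperty.pullback_snd _ _ inferInstance
  -- the kernel
  have sqN : IsPullback (iN D N) (toUnit _) q (1 : 𝟙_ (Over S) ⟶ Q) := by
    have hw : iN D N ≫ q = toUnit _ ≫ (1 : 𝟙_ (Over S) ⟶ Q) := by
      rw [MonObj.comp_one, ← Category.id_comp (iN D N ≫ q)]
      exact kills q hq _
    have hex : ∀ c : PullbackCone q (1 : 𝟙_ (Over S) ⟶ Q), ∃ z, z ≫ iN D N = c.fst := fun c =>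
      exists_of_comp_eq_one q hq _ (c.condition.trans (MonObj.comp_one _))
    exact ⟨⟨hw⟩, ⟨PullbackCone.IsLimit.mk hw (fun c => (hex c).choose) (fun c => (hex c).choose_spec)
      (fun c => toUnit_unique _ _) (fun c m h1 _ => (cancel_mono (iN D N)).1 (h1.trans (hex c).choose_spec.symm))⟩⟩
  let c := Groth.L25.Component.one (Red.bc p Q)
  let c' := Groth.L25.Component.one (Red.bc p (Red.DS S ↥N))
  have hR : Set.range (Fp.map (iN D N)).left = (Fp.map q).left ⁻¹' {c} := by
    have sq' : IsPullback (Fp.map (iN D N)).left (Fp.map (toUnit _)).left (Fp.map q).left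
        (Fp.map (1 : 𝟙_ (Over S) ⟶ Q)).left := (sqN.map Fp).map (Over.forget _)
    have hr : Set.range (Fp.map (iN D N)).left =
        (Fp.map q).left ⁻¹' Set.range (Fp.map (1 : 𝟙_ (Over S) ⟶ Q)).left := by
      rw [← Scheme.Pullback.range_fst, ← sq'.isoPullback_hom_fst, Scheme.Hom.comp_base, TopCat.coe_comp,
        sq'.isoPullback.hom.surjective.range_comp]
    haveI : Subsingleton ↥(Red.bc p (𝟙_ (Over S))).left := by
      haveI : IsIso (pullback.snd (𝟙_ (Over S)).hom p) := by
        haveI : IsIso (𝟙_ (Over S)).hom := inferInstanceAs (IsIso (𝟙 S))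
        infer_instance
      haveI : Subsingleton ↥(Spec (CommRingCat.of K)) := inferInstanceAs (Subsingleton (PrimeSpectrum K))
      exact (pullback.snd (𝟙_ (Over S)).hom p).homeomorph.injective.subsingleton
    have hmem : (Fp.map q).left (Groth.L25.Component.one (Red.bc p G)) = c := Groth.L15.KerDim.hom_one (Fp.map q)
    have hG : Groth.L25.Component.one (Red.bc p G) ∈ Set.range (Fp.map (iN D N)).left :=
      ⟨_, Groth.L15.KerDim.hom_one (Fp.map (iN D N))⟩
    rw [hr] at hG ⊢
    obtain ⟨o, ho⟩ := hG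
    rw [hmem] at ho
    congr 1
    refine Set.eq_singleton_iff_unique_mem.2 ⟨⟨o, ho⟩, ?_⟩
    rintro _ ⟨o', rfl⟩
    rw [← ho]
    exact congrArg _ (Subsingleton.elim _ _)
  have hsub : (Fp.map q).left ⁻¹' {c} ⊆ Set.range (Fp.map D.i).left := by
    rw [← hR, iN, ← Category.assoc, Functor.map_comp, Over.comp_left, Scheme.Hom.comp_base, TopCat.coe_comp]
    exact Set.range_comp_subset_range _ _
  have htau : (Fp.map D.i).left ⁻¹' ((Fp.map q).left ⁻¹' {c}) = (Fp.map (tau D N)).left ⁻¹' {c'} := by
    have hc : (Fp.map j).left c' = c := Groth.L15.KerDim.hom_one (Fp.map j)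
    ext x
    show (Fp.map q).left ((Fp.map D.i).left x) = c ↔ (Fp.map (tau D N)).left x = c'
    rw [← Scheme.Hom.comp_apply, ← Over.comp_left, ← Functor.map_comp, ← hj, Functor.map_comp, Over.comp_left,
      Scheme.Hom.comp_apply, ← hc]
    exact ((Fp.map j).left.isClosedEmbedding.injective).eq_iff
  have hF : topologicalKrullDim ↥((Fp.map (tau D N)).left ⁻¹' {c'}) =
      topologicalKrullDim ↥((Fp.map q).left ⁻¹' {c}) := by
    rw [← htau]
    have he := (Fp.map D.i).left.isClosedEmbedding.isEmbedding
    refine IsHomeomorph.topologicalKrullDim_eq _ ((he.homeomorphImage _).trans (Homeomorph.setCongr ?_)).isHomeomorph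
    exact Set.image_preimage_eq_of_subset hsub
  have h1 := Groth.L15.KerDim.dim_eq_of_flat (Fp.map q)
  have h2 := Groth.L15.KerDim.dim_eq_of_flat (Fp.map (tau D N))
  rw [hF] at h2
  haveI : Module.Finite ℤ ↥N := Module.Finite.iff_addGroup_fg.2 (Module.Finite.iff_addGroup_fg.1
    (inferInstance : Module.Finite ℤ (AddSubgroup.toIntSubmodule N)))
  haveI : Module.Free ℤ ↥N := Module.Free.of_equiv (LinearEquiv.refl ℤ (AddSubgroup.toIntSubmodule N) :
    _ ≃ₗ[ℤ] ↥N)
  have hds : ∀ (L : Type) [AddCommGroup L] [Module.Finite ℤ L] [Module.Free ℤ L],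
      topologicalKrullDim ↥(Red.bc p (Red.DS S L)).left = (Module.finrank ℤ L : WithBot ℕ∞) := fun L _ _ _ => by
    rw [← Groth.L08.Borel.dim_of_split (k := K) (T := Red.DS (Spec (CommRingCat.of K)) L)
      ⟨TorLift.dsCongr _ (Module.finBasis ℤ L).equivFun.toAddEquiv⟩]
    exact IsHomeomorph.topologicalKrullDim_eq _
      (Scheme.homeoOfIso ((Over.forget _).mapIso (SplitSub.bcDS p))).isHomeomorph
  have hT : topologicalKrullDim ↥(Red.bc p D.T).left = (Module.finrank ℤ D.M : WithBot ℕ∞) := by
    rw [← hds D.M]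
    exact IsHomeomorph.topologicalKrullDim_eq _ (Scheme.homeoOfIso ((Over.forget _).mapIso
      (Fp.mapIso (asIso D.split.hom.hom.hom)))).isHomeomorph
  rw [hT, hds ↥N] at h2
  have hG := D.dim_fibre s
  change topologicalKrullDim ↥(Red.bc p G).left = _ at hG
  rw [hG] at h1
  show topologicalKrullDim ↥(Red.bc p Q).left = _
  exact cancel_dim h1 h2

end Quot

end Groth.L14.CentQuot
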