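import Groth.Agent.L14.CentQuot.SplitRoot
import Groth.Agent.L14.CentQuot.SplitFibre

/-!
# The splitting of the quotient of a split group by a central subgroup
-/

set_option autoImplicit false
set_option backward.isDefEq.respectTransparency.types false
set_option linter.style.haveILetI false
set_option linter.unusedSectionVars false
set_option maxHeartbeats 1000000

universe u

open CategoryTheory CategoryTheory.Limits MonoidalCategory CartesianMonoidalCategory MonObj AlgebraicGeometry
open Groth.L25

noncomputable section

namespace Groth.L14.CentQuot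

variable {S : Scheme.{u}} {G : Over S} [GrpObj G] (D : Red.SplitRed G) (N : AddSubgroup D.M)
  (hN : ∀ a : D.idx, D.P.root a ∈ N)

include hN in
/-- the quotient by the central subgroup exists as a reductive group -/
theorem exists_quotient_central :
    ∃ (Q : Over S) (_ : GrpObj Q) (q : G ⟶ Q), IsMonHom q ∧ RedSub.IsQuotient (iN D N) q ∧ IsAffineHom Q.hom := by
  haveI := D.reductive.1
  haveI : Module.Finite ℤ (D.M ⧸ N) :=
    Module.Finite.of_surjective (QuotientAddGroup.mk' N).toIntLinearMap (QuotientAddGroup.mk'_surjective N)
  haveI : AddMonoid.FG (D.M ⧸ N) := AddGroup.fg_iff_addMonoid_fg.1 (Module.Finite.iff_addGroup_fg.1 ‹_›)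
  exact exists_quotient (iN D N) (iN_normal D N hN)

variable {Q : Over S} [GrpObj Q] (q : G ⟶ Q) [IsMonHom q] (hq : RedSub.IsQuotient (iN D N) q)
  (hQ : IsAffineHom Q.hom)

include hN hq hQ in
/-- **the splitting of the quotient** -/
theorem exists_split_quot :
    ∃ (D' : Red.SplitRed Q) (τ : D.T ⟶ D'.T) (eidx : D.idx ≃ D'.idx) (em : D'.M ≃+ ↥N),
      τ ≫ D'.i = D.i ≫ q ∧
      τ ≫ D'.split.hom.hom.hom = D.split.hom.hom.hom ≫ Red.DSmap S (N.subtype.comp em.toAddMonoidHom) ∧
      (∀ a : D.idx, ((em (D'.P.root (eidx a)) : ↥N) : D.M) = D.P.root a) ∧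
      (∀ a : D.idx, D.u a ≫ q = D'.u (eidx a)) := by
  obtain ⟨j, hjm, hjmono, hj⟩ := exists_iT D N q hq
  haveI := hjm; haveI := hjmono
  haveI := finite_sub N
  haveI := free_sub N
  refine ⟨{ T := Red.DS S ↥N
            i := j
            M := ↥N
            idx := D.idx
            P := subPairing D.P D.pairing_eq N hN
            pairing_eq := rfl
            u := fun a => D.u a ≫ q
            reductive := isReductive_quot D N q hq hQ
            maximalTorus := isMaximalTorus_quot D N q hq hQ j hj
            split := Iso.refl _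
            rootHom := fun a => isRootHom_quot D N hN q hq j hj a
            refl := fun a => refl_quot D N hN q hq j hj a
            dim_fibre := dim_quot D N q hq hQ j hj },
    tau D N, Equiv.refl _, AddEquiv.refl _, hj, ?_, fun a => rfl, fun a => rfl⟩
  show tau D N ≫ 𝟙 _ = _
  rw [Category.comp_id]
  rfl

end Groth.L14.CentQuot
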