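import Groth.Agent.L14.CentQuot.SplitBase
import Groth.Agent.L14.CentQuot.SplitDatum
import Groth.Agent.L14.Chev.Cell.Closed
import Groth.Agent.L14.Chev.Cell.NegBase
import Groth.Agent.L14.Chev.Cell.Regular
import Groth.Agent.L14.AlmostSimple.Torus
import Groth.Agent.L23.Descent

/-!
# Root groups and reflections of the quotient by a central subgroup
-/

set_option autoImplicit false
set_option backward.isDefEq.respectTransparency.types false
set_option linter.style.haveILetI false
set_option linter.unusedSectionVars false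
set_option maxHeartbeats 1000000

universe u

open CategoryTheory CategoryTheory.Limits MonoidalCategory CartesianMonoidalCategory MonObj AlgebraicGeometry
open Groth.L25
open Groth.L14.Chev.Cell (tup proj tup_proj comp_borelMap ofFn_prod_append exists_enum)

noncomputable section

namespace Groth.L14.CentQuot

variable {S : Scheme.{u}} {G : Over S} [GrpObj G] (D : Red.SplitRed G) (N : AddSubgroup D.M)
  (hN : ∀ a : D.idx, D.P.root a ∈ N)

/-- a root group times the central subgroup -/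
def phi (a : D.idx) : Red.Ga S ⊗ Red.DS S (D.M ⧸ N) ⟶ G :=
  (fst _ _ ≫ D.u a) * (snd _ _ ≫ iN D N)

theorem comp_phi {X : Over S} (a : D.idx) (p : X ⟶ Red.Ga S ⊗ Red.DS S (D.M ⧸ N)) :
    p ≫ phi D N a = ((p ≫ fst _ _) ≫ D.u a) * ((p ≫ snd _ _) ≫ iN D N) := by
  rw [phi, MonObj.comp_mul, Category.assoc, Category.assoc]

include hN in
theorem isClosedImmersion_phi (a : D.idx) : IsClosedImmersion (phi D N a).left := by
  rcases isEmpty_or_nonempty S with hS | hS
  · haveI : IsEmpty (Red.Ga S ⊗ Red.DS S (D.M ⧸ N)).left :=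
      Function.isEmpty (Red.Ga S ⊗ Red.DS S (D.M ⧸ N)).hom.base
    haveI : IsEmpty G.left := Function.isEmpty G.hom.base
    haveI : IsIso (phi D N a).left :=
      isIso_of_isInitial (isInitialOfIsEmpty (X := (Red.Ga S ⊗ Red.DS S (D.M ⧸ N)).left))
        (isInitialOfIsEmpty (X := G.left)) _
    infer_instance
  haveI : Finite D.idx := Finite.of_fintype _
  haveI : D.P.IsReduced := Groth.L14.Luna.SemiRank.isReduced_splitRed D
  haveI := D.maximalTorus.1
  haveI : ∀ c, IsMonHom (D.u c) := fun c => (D.rootHom c).1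
  obtain ⟨b₀⟩ := Groth.L14.AlmostSimple.exists_base D
  obtain ⟨b, hb⟩ : ∃ b : D.P.Base, a ∈ RedSub.posRoots D.P b := by
    rcases b₀.root_mem_or_neg_mem a with h | h
    · exact ⟨b₀, h⟩
    · exact ⟨Groth.L14.Chev.Cell.negBase D.P b₀, by rw [Groth.L14.Chev.Cell.posRoots_negBase]; exact h⟩
  obtain ⟨k, e', he'⟩ := exists_enum (D := D) (RedSub.posRoots D.P b \ {a})
  let e : Fin (1 + k) → D.idx := Fin.append (fun _ => a) e'
  have hE : RedSub.Enumerates (RedSub.posRoots D.P b) e := by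
    refine ⟨Fin.append_injective_iff.2 ⟨fun i l _ => Subsingleton.elim _ _, he'.1, fun i l h => ?_⟩, ?_⟩
    · exact (he'.2 ▸ Set.mem_range_self l : e' l ∈ RedSub.posRoots D.P b \ {a}).2 (by exact h.symm)
    · ext c
      constructor
      · rintro ⟨l, rfl⟩
        induction l using Fin.addCases with
        | left l => simp only [e, Fin.append_left]; exact hb
        | right l =>
          simp only [e, Fin.append_right]
          exact (he'.2 ▸ Set.mem_range_self l : e' l ∈ RedSub.posRoots D.P b \ {a}).1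
      · intro hc
        rcases eq_or_ne c a with rfl | hne
        · exact ⟨Fin.castAdd k 0, Fin.append_left _ _ _⟩
        · obtain ⟨l, rfl⟩ : c ∈ Set.range e' := he'.2.symm ▸ ⟨hc, hne⟩
          exact ⟨Fin.natAdd 1 l, Fin.append_right _ _ _⟩
  let X := Red.Ga S
  let zc : Red.DS S (D.M ⧸ N) ⟶ D.T := Red.DSmap S (QuotientAddGroup.mk' N) ≫ D.split.inv.hom.hom
  let sec : X ⊗ Red.DS S (D.M ⧸ N) ⟶ D.T ⊗ RedSub.pow X (1 + k) :=
    lift (snd _ _ ≫ zc) (tup (1 + k) (Fin.append (fun _ => fst _ _) fun _ => 1))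
  let ret : D.T ⊗ RedSub.pow X (1 + k) ⟶ X ⊗ D.T :=
    lift (snd _ _ ≫ proj X (1 + k) (Fin.castAdd k 0)) (fst _ _)
  have hret : sec ≫ ret = X ◁ zc := by
    refine CartesianMonoidalCategory.hom_ext _ _ ?_ ?_
    · simp only [sec, ret, Category.assoc, lift_fst, lift_snd_assoc, tup_proj, Fin.append_left, whiskerLeft_fst]
    · simp only [sec, ret, Category.assoc, lift_snd, lift_fst, whiskerLeft_snd]
  have hsec : sec ≫ RedSub.borelMap D e = phi D N a := by
    rw [comp_borelMap, ofFn_prod_append]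
    simp only [sec, e, lift_snd, tup_proj, Fin.append_left, Fin.append_right, MonObj.one_comp,
      List.ofFn_const, List.prod_replicate, one_pow, _root_.mul_one, List.replicate_one, List.prod_singleton]
    erw [lift_fst, Category.assoc]
    refine Eq.trans ?_ (iN_central D N hN (snd X _) (fst X _ ≫ D.u a))
    simp only [zc, iN, Category.assoc]
  haveI hzc : IsClosedImmersion zc.left := by
    haveI := isClosedImmersion_DSmap (S := S) (QuotientAddGroup.mk' N) (QuotientAddGroup.mk'_surjective N)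
    haveI : IsIso D.split.inv.hom.hom.left := inferInstanceAs (IsIso ((Over.forget S).map D.split.inv.hom.hom))
    rw [show zc.left = _ from Over.comp_left ..]
    infer_instance
  haveI : IsClosedImmersion (sec.left ≫ ret.left) := by
    rw [← Over.comp_left, hret]
    exact MorphismProperty.of_isPullback (Actions.isPullback_whiskerLeft_left X zc).flip hzc
  haveI := D.reductive.1
  haveI := (Groth.L14.Chev.Cell.affSmooth_borel D (1 + k)).1
  haveI : IsSeparated ret.left := by
    haveI : IsSeparated (ret.left ≫ (X ⊗ D.T).hom) := by rw [Over.w ret]; infer_instance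
    exact IsSeparated.of_comp ret.left (X ⊗ D.T).hom
  haveI : IsClosedImmersion sec.left := IsClosedImmersion.of_comp sec.left ret.left
  haveI := Groth.L14.Chev.Cell.isClosedImmersion_borelMap hE
  rw [← hsec, Over.comp_left]
  infer_instance

variable {Q : Over S} [GrpObj Q] (q : G ⟶ Q) [IsMonHom q] (hq : RedSub.IsQuotient (iN D N) q)

include hN hq in
theorem isClosedImmersion_rootQ (a : D.idx) : IsClosedImmersion (D.u a ≫ q).left := by
  have hw : phi D N a ≫ q = fst _ _ ≫ D.u a ≫ q := by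
    rw [phi, MonObj.mul_comp, Category.assoc, Category.assoc, kills q hq, _root_.mul_one]
  have hex : ∀ c : PullbackCone q (D.u a ≫ q), ∃ z : c.pt ⟶ Red.DS S (D.M ⧸ N),
      (c.snd ≫ D.u a) * (z ≫ iN D N) = c.fst := fun c =>
    eq_translate q hq _ _ (by rw [Category.assoc]; exact c.condition.symm)
  have sq : IsPullback (phi D N a) (fst _ _) q (D.u a ≫ q) := by
    refine ⟨⟨hw⟩, ⟨PullbackCone.IsLimit.mk hw (fun c => lift c.snd (hex c).choose) (fun c => ?_)
      (fun c => lift_fst _ _) (fun c m h1 h2 => ?_)⟩⟩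
    · rw [comp_phi, lift_fst, lift_snd]
      exact (hex c).choose_spec
    · refine CartesianMonoidalCategory.hom_ext _ _ (by rw [lift_fst]; exact h2) ?_
      rw [lift_snd, ← cancel_mono (iN D N)]
      refine mul_left_cancel (a := c.snd ≫ D.u a) ?_
      rw [(hex c).choose_spec, ← h1]
      refine Eq.trans ?_ (comp_phi D N a m).symm
      rw [h2]
  exact MorphismProperty.of_isPullback_of_descendsAlong (P := @IsClosedImmersion)
    (Q := @Surjective ⊓ @Flat ⊓ @LocallyOfFinitePresentation) (sq.map (Over.forget S))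
    ⟨⟨hq.1, hq.2.1⟩, hq.2.2.1⟩ (isClosedImmersion_phi D N hN a)

include hq hN in
theorem isRootHom_quot (j : Red.DS S ↥N ⟶ Q) (hj : tau D N ≫ j = D.i ≫ q) (a : D.idx) :
    Red.IsRootHom j (𝟙 _ ≫ Red.chi S (⟨D.P.root a, hN a⟩ : ↥N)) (D.u a ≫ q) := by
  haveI := (D.rootHom a).1
  refine ⟨inferInstance, isClosedImmersion_rootQ D N hN q hq a, fun X t x => ?_⟩
  refine ⟨GaPts.ptOfElt (Red.gmFn (t ≫ 𝟙 _ ≫ Red.chi S (⟨D.P.root a, hN a⟩ : ↥N)) * Red.gaFn x), ?_,
    GaPts.gaFn_ptOfElt _⟩
  obtain ⟨X', c, hc, t', ht⟩ := exists_cover_lift D N t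
  haveI := hc
  obtain ⟨y, hy, hyv⟩ := (D.rootHom a).2.2 X' t' (c ≫ x)
  refine (cancel_epi c).1 ?_
  have h1 : c ≫ GaPts.ptOfElt (Red.gmFn (t ≫ 𝟙 _ ≫ Red.chi S (⟨D.P.root a, hN a⟩ : ↥N)) * Red.gaFn x) = y := by
    refine GaPts.gaFn_injective ?_
    show Red.gaFn _ = Red.gaFn y
    rw [hyv, GaPts.gaFn_comp, GaPts.gaFn_ptOfElt, map_mul, ← GaPts.gaFn_comp]
    congr 1
    rw [Category.id_comp, Luna.SemiRank.gmFn_chi', ← DSPts.char_comp, ← ht, tau, ← Category.assoc,
      SplitSub.char_DSmap, ← Category.assoc, Luna.SemiRank.gmFn_chi']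
    rfl
  let Φ : (X' ⟶ G) →* (X' ⟶ Q) := MonoidHom.mk' (fun p => p ≫ q) fun p r => MonObj.mul_comp p r q
  rw [← Category.assoc c, h1, ← Category.assoc, hy, MonObj.comp_mul, MonObj.comp_mul, GrpObj.comp_inv]
  show Φ _ = _
  rw [map_mul, map_mul, map_inv]
  show ((t' ≫ D.i) ≫ q) * (((c ≫ x) ≫ D.u a) ≫ q) * ((t' ≫ D.i) ≫ q)⁻¹ = _
  simp only [Category.assoc, ← hj]
  rw [← Category.assoc t' (tau D N) j, ht, Category.assoc]

include hq hN in
theorem refl_quot (j : Red.DS S ↥N ⟶ Q) (hj : tau D N ≫ j = D.i ≫ q) (a : D.idx) :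
    ∃ n : 𝟙_ (Over S) ⟶ Q, ∀ (X : Over S) (t : X ⟶ Red.DS S ↥N),
      (toUnit X ≫ n) * (t ≫ j) * (toUnit X ≫ n)⁻¹ =
        t ≫ 𝟙 _ ≫ Red.DSmap S ((subPairing D.P D.pairing_eq N hN).reflection a).toLinearMap.toAddMonoidHom ≫
          𝟙 _ ≫ j := by
  obtain ⟨n, hn⟩ := D.refl a
  refine ⟨n ≫ q, fun X t => ?_⟩
  obtain ⟨X', c, hc, t', ht⟩ := exists_cover_lift D N t
  haveI := hc
  refine (cancel_epi c).1 ?_
  let Φ : (X' ⟶ G) →* (X' ⟶ Q) := MonoidHom.mk' (fun p => p ≫ q) fun p r => MonObj.mul_comp p r q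
  have h := congrArg Φ (hn X' t')
  rw [map_mul, map_mul, map_inv] at h
  have h' : ((toUnit X' ≫ n) ≫ q) * ((t' ≫ D.i) ≫ q) * ((toUnit X' ≫ n) ≫ q)⁻¹ =
      (t' ≫ D.split.hom.hom.hom ≫ Red.DSmap S (D.P.reflection a).toLinearMap.toAddMonoidHom ≫
        D.split.inv.hom.hom ≫ D.i) ≫ q := h
  simp only [Category.assoc, ← hj] at h'
  rw [MonObj.comp_mul, MonObj.comp_mul, GrpObj.comp_inv, comp_toUnit_assoc, Category.id_comp, Category.id_comp,
    ← Category.assoc c t, ← ht, ← Category.assoc c t, ← ht]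
  simp only [Category.assoc]
  rw [h']
  simp only [tau, Category.assoc]
  rw [← Category.assoc D.split.inv.hom.hom, inv_hom', Category.id_comp,
    ← Category.assoc (Red.DSmap S _) (Red.DSmap S _) j, TorusTorsion.DSmap_comp,
    ← Category.assoc (Red.DSmap S _) (Red.DSmap S _) j, TorusTorsion.DSmap_comp]
  congr 4
  exact AddMonoidHom.ext fun m => (subPairing_reflection D.P D.pairing_eq N hN a m).symm

end Groth.L14.CentQuot
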